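import Cfsg.Agent.H69.OQ.InRows

/-!
# S4884, own odd characteristic: `HasIn` for the orthogonal groups of plus type (helper69)
-/

set_option autoImplicit false
set_option linter.unusedSectionVars false

namespace Cfsg.Agent.H69.OQ

open Cfsg QuadraticMap
open Cfsg.Agent.ChevalleyStructure.CoxeterGeom Cfsg.Agent.Tits.Roots
open Cfsg.Agent.Nodes Cfsg.Agent.Nodes.Comb Cfsg.Agent.Nodes.Reps Cfsg.Agent.Nodes.BNOf
open Cfsg.Agent.Nodes.WittRGD Cfsg.Agent.Nodes.RGDLib Cfsg.Agent.H684.OQ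
open Cfsg.Agent.TitsThree Cfsg.Agent.TitsThree.Siegel Cfsg.Agent.TitsThree.WittFrame
  Cfsg.Agent.TitsThree.WittWeyl
open Cfsg.Agent.Nodes.WittRoot (Amb Mono XG)
open Cfsg.Agent.Nodes.TypeC (wt wt_apply)
open Cfsg.Agent.Nodes.TypeD

section Map

open CoxeterSystem

variable {I W Y Y' : Type*} [Fintype I] [DecidableEq I] [Group W] [Group Y] [Group Y'] {M : CoxeterMatrix I}
  {cs : CoxeterSystem M W} {A : I → I → ℤ} {h : IsCartan M A} {T : Subgroup Y} {X : (I → ℤ) → Subgroup Y}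

/-- a map with central kernel is injective on the root groups -/
theorem NoFix.inj (hN : NoFix cs h T X) (f : Y →* Y') (hker : f.ker ≤ Subgroup.center Y) {x : I → ℤ}
    (hx : IsRoot cs h x) {z : Y} (hz : z ∈ X x) (h1 : f z = 1) : z = 1 :=
  hN x hx z hz fun t _ _ => (Subgroup.mem_center_iff.1 (hker (MonoidHom.mem_ker.2 h1)) t)

end Map

variable {F : Type*} [Field F] {V : Type*} [AddCommGroup V] [Module F V] {H : HForm F V} {n : ℕ}
  {Fr : Frame H (Fin (n + 2))} {G0 : Subgroup (V ≃ₗ[F] V)}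

theorem hX_memD (hA : Amb Fr G0) (a b : Fin (n + 2) × Bool) (t : F) : hX Fr a b t ∈ G0 :=
  mul_mem (mul_mem (mul_mem (hA.X_mem _ _ _) (hA.X_mem _ _ _)) (hA.X_mem _ _ _))
    (mul_mem (mul_mem (hA.X_mem _ _ _) (hA.X_mem _ _ _)) (hA.X_mem _ _ _))

theorem X_injD {a b : Fin (n + 2) × Bool} (hab : a.1 ≠ b.1) {s s' : F} (h : Fr.X a b s = Fr.X a b s') : s = s' := by
  have h5 := congrArg (fun g : V ≃ₗ[F] V => g (Fr.b (neg b))) h
  simp only [X_apply_neg Fr hab] at h5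
  have h6 := add_left_cancel h5
  by_contra hne
  have h8 : (s - s') • Fr.b a = 0 := by rw [sub_smul, h6, sub_self]
  exact b_ne_zero a ((smul_eq_zero.1 h8).resolve_left (sub_ne_zero.2 hne))

variable {K0 : Type*} [Group K0] (hA : Amb Fr G0) (φ : G0 →* K0)
  (hinj : ∀ a b : Fin (n + 2) × Bool, a.1 ≠ b.1 → ∀ s s' : F,
    φ ⟨Fr.X a b s, hA.X_mem _ _ _⟩ = φ ⟨Fr.X a b s', hA.X_mem _ _ _⟩ → s = s')

/-- the root groups of the quotient -/
def XQ (Fr : Frame H (Fin (n + 2))) (φ : G0 →* K0) (x : Fin (n + 2) → ℤ) : Subgroup K0 :=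
  ((WittRGDD.rg Fr x).subgroupOf G0).map φ

theorem mem_XQ {x : Fin (n + 2) → ℤ} {a b : Fin (n + 2) × Bool} (hab : a.1 ≠ b.1) (e : ee x = wt a + wt b) {k : K0} :
    k ∈ XQ Fr φ x ↔ ∃ s, k = φ ⟨Fr.X a b s, hA.X_mem _ _ _⟩ := by
  unfold XQ
  rw [WittRGDD.rg_eq Fr hab e]
  constructor
  · rintro ⟨⟨g, hg⟩, hgx, rfl⟩
    obtain ⟨s, hs⟩ := Subgroup.mem_subgroupOf.1 hgx
    refine ⟨s, ?_⟩
    congr 1
    exact Subtype.ext hs
  · rintro ⟨s, rfl⟩
    exact Subgroup.mem_map_of_mem _ (Subgroup.mem_subgroupOf.2 ⟨s, rfl⟩)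

include hinj in
/-- the nodes of type `D` -/
theorem slNode_D [Finite F] (i : Fin (n + 2)) :
    SLNode (((Tor Fr G0).subgroupOf G0).map φ) (fun i => φ ⟨WittRGDD.nn Fr i, WittRGDD.nn_mem hA i⟩) (XQ Fr φ) i := by
  have hne : ((i, true) : Fin (n + 2) × Bool).1 ≠ (nx i).1 := ok_nx i
  have hmX : ∀ {k : K0}, k ∈ XQ Fr φ (sr i) ↔ ∃ s, k = φ ⟨Fr.X (i, true) (nx i) s, hA.X_mem _ _ _⟩ :=
    mem_XQ hA φ hne (ee_sr i)
  have hX0 : φ ⟨Fr.X (i, true) (nx i) 0, hA.X_mem _ _ _⟩ = 1 := by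
    have : (⟨Fr.X (i, true) (nx i) 0, hA.X_mem _ _ _⟩ : G0) = 1 := Subtype.ext (Fr.X_zero _ _)
    rw [this, map_one]
  let f : Fˣ →* K0 := MonoidHom.mk' (fun s => φ ⟨hX Fr (i, true) (nx i) (s : F), hX_memD hA _ _ _⟩) fun s t => by
    rw [← map_mul]
    congr 1
    apply Subtype.ext
    change hX Fr (i, true) (nx i) ((s * t : Fˣ) : F) = _
    rw [Units.val_mul]
    exact hX_mul hA hne s.ne_zero t.ne_zero
  refine slNode_of (K := Fˣ) f (fun k => ?_) (fun s => φ ⟨Fr.X (i, true) (nx i) ((s : F)⁻¹), hA.X_mem _ _ _⟩)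
    (fun k => hmX.2 ⟨_, rfl⟩) (fun k h => ?_) (fun s t h => ?_) (fun x hx hx1 => ?_) (fun s => ?_)
  · exact Subgroup.mem_map_of_mem _ (Subgroup.mem_subgroupOf.2 ⟨hX_memD hA _ _ _, mono_hX Fr hne k.ne_zero⟩)
  · rw [← hX0] at h
    exact inv_ne_zero k.ne_zero (hinj _ _ hne _ _ h)
  · exact Units.ext (inv_injective (hinj _ _ hne _ _ h))
  · obtain ⟨s, rfl⟩ := hmX.1 hx
    have hs : s ≠ 0 := by
      rintro rfl
      exact hx1 hX0
    refine ⟨Units.mk0 s⁻¹ (inv_ne_zero hs), ?_⟩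
    simp only [Units.val_mk0, inv_inv]
  · refine ⟨_, hmX.2 ⟨-(s : F), rfl⟩, _, hmX.2 ⟨-(s : F), rfl⟩, ?_⟩
    change φ _ * φ _ * (φ _)⁻¹ = φ _ * φ _ * φ _ * φ _
    rw [← map_inv, ← map_mul, ← map_mul, ← map_mul, ← map_mul, ← map_mul]
    congr 1
    apply Subtype.ext
    exact nX_conj_eq hA hne s.ne_zero

/-- the scalar of `h_j(-1)` on the vector `b z` -/
theorem hX_neg_oneD (h2 : (2 : F) ≠ 0) (j : Fin (n + 2)) (z : Fin (n + 2) × Bool) :
    ∃ l : F, hX Fr (j, true) (nx j) (-1) (Fr.b z) = l • Fr.b z ∧ (l = 1 ∨ l = -1) ∧ (Even (Cf j (wt z)) ↔ l = 1) := by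
  have hne : ((j, true) : Fin (n + 2) × Bool).1 ≠ (nx j).1 := ok_nx j
  have h1 : (-1 : F) ≠ 0 := neg_ne_zero.2 one_ne_zero
  have h11 : (-1 : F) ≠ 1 := by
    intro h
    apply h2
    have : (1 : F) + 1 = 0 := by nth_rewrite 1 [← h]; ring
    rw [← this]; norm_num
  have hCf : (Even (Cf j (wt z)) ↔ Even (wt z j + wt z (nx j).1)) := by
    unfold Cf nx
    split_ifs with hj
    · rw [Int.even_add, Int.even_sub]
    · rfl
  rw [hCf]
  by_cases hz1 : z.1 = j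
  · have hz2 : ¬ (nx j).1 = z.1 := by rw [hz1]; exact hne.symm
    have e : wt z j + wt z (nx j).1 = if z.2 then 1 else -1 := by
      rw [wt_apply, wt_apply, if_pos hz1.symm, if_neg hz2, add_zero]
    have hodd : ¬ Even (wt z j + wt z (nx j).1) := by
      rw [e]; split_ifs <;> decide
    refine ⟨-1, ?_, Or.inr rfl, fun h => absurd h hodd, fun h => absurd h h11⟩
    rcases WittRGD.eq_or_ng (a := z) (b := (j, true)) hz1 with rfl | rfl
    · exact hX_a Fr hne h1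
    · have e3 : hX Fr (j, true) (nx j) (-1) (Fr.b (TypeC.ng (j, true))) = _ := hX_na Fr hne h1
      rw [e3, map_neg, map_one, inv_neg, inv_one]
      rfl
  by_cases hz2 : z.1 = (nx j).1
  · have e : wt z j + wt z (nx j).1 = if z.2 then 1 else -1 := by
      rw [wt_apply, wt_apply, if_neg (fun h => hz1 h.symm), if_pos hz2.symm, zero_add]
    have hodd : ¬ Even (wt z j + wt z (nx j).1) := by
      rw [e]; split_ifs <;> decide
    refine ⟨-1, ?_, Or.inr rfl, fun h => absurd h hodd, fun h => absurd h h11⟩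
    rcases WittRGD.eq_or_ng hz2 with rfl | rfl
    · rw [hX_b Fr hne h1, map_neg, map_one]
    · have e3 : hX Fr (j, true) (nx j) (-1) (Fr.b (TypeC.ng (nx j))) = _ := hX_nb Fr hne h1
      rw [e3, inv_neg, inv_one]
      rfl
  · have e : wt z j + wt z (nx j).1 = 0 := by
      rw [wt_apply, wt_apply, if_neg (fun h => hz1 h.symm), if_neg (fun h => hz2 h.symm), add_zero]
    refine ⟨1, by rw [hX_ne Fr hne hz1 hz2, one_smul], Or.inl rfl, fun _ => rfl, fun _ => by rw [e]; exact Even.zero⟩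

include hinj in
/-- `TWFaithful` for the type `D` -/
theorem twFaithful_D {p : ℕ} {W : Type*} [Group W] (cs : CoxeterSystem (M n) W) (h2 : (2 : F) ≠ 0)
    {nw : Fin (n + 2) → K0} (R : RGD cs (isCartan n) p (((Tor Fr G0).subgroupOf G0).map φ) nw (XQ Fr φ)) :
    TWFaithful cs (((Tor Fr G0).subgroupOf G0).map φ) nw R.nsys := by
  have h1 : (-1 : F) ≠ 0 := neg_ne_zero.2 one_ne_zero
  have h11 : (-1 : F) ≠ 1 := by
    intro h
    apply h2
    have : (1 : F) + 1 = 0 := by nth_rewrite 1 [← h]; ring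
    rw [← this]; norm_num
  refine H69.OQ.twFaithful_gen R (S := Set.univ) ?_
    (fun j => φ ⟨hX Fr (j, true) (nx j) (-1), hX_memD hA _ _ _⟩) ?_ ?_ ?_
  · intro i hi
    exact absurd (Set.mem_univ i) hi
  · intro j _
    exact Subgroup.mem_map_of_mem _ (Subgroup.mem_subgroupOf.2 ⟨hX_memD hA _ _ _, mono_hX Fr (ok_nx j) h1⟩)
  · intro j _
    refine ⟨1, ?_⟩
    have h3 : hX Fr (j, true) (nx j) (-1) ^ 2 ^ 1 = 1 := hX_pow Fr (ok_nx j) h1 hA (by norm_num)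
    change φ _ ^ 2 ^ 1 = 1
    rw [← map_pow]
    have : (⟨hX Fr (j, true) (nx j) (-1), hX_memD hA _ _ _⟩ : G0) ^ 2 ^ 1 = 1 := Subtype.ext h3
    rw [this, map_one]
  · intro j _ i _ u
    obtain ⟨a, b, hab, e⟩ := exists_of_isRoot cs ((isRoot_sr cs (isCartan n) i).act u)
    have hab' : a.1 ≠ b.1 := hab
    obtain ⟨l, hl, hl1, hle⟩ := hX_neg_oneD (Fr := Fr) h2 j a
    obtain ⟨m, hm, hm1, hme⟩ := hX_neg_oneD (Fr := Fr) h2 j b
    have hpair : pairing (TypeD.A n) j (rep cs (isCartan n) u (sr i)) = Cf j (wt a) + Cf j (wt b) := by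
      rw [← Cf_ee, e, Cf_add]
    have hσ : H.σ m = m := by
      rcases hm1 with rfl | rfl
      · exact map_one _
      · rw [map_neg, map_one]
    have hlm : (Even (Cf j (wt a) + Cf j (wt b)) ↔ l * m = 1) := by
      rw [Int.even_add, hle, hme]
      rcases hl1 with rfl | rfl <;> rcases hm1 with rfl | rfl
      · simp
      · simp [h11]
      · simp [h11]
      · simp [h11]
    have hc : ∀ s, hX Fr (j, true) (nx j) (-1) * Fr.X a b s * (hX Fr (j, true) (nx j) (-1))⁻¹ =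
        Fr.X a b (l * m * s) := by
      intro s
      rw [conj_X Fr (hA.iso _ (hX_memD hA _ _ _)) hab' hab' hl hm, hσ]
      congr 1
      have := Fr.η_ne b
      field_simp
    have hc' : ∀ s, φ ⟨hX Fr (j, true) (nx j) (-1), hX_memD hA _ _ _⟩ * φ ⟨Fr.X a b s, hA.X_mem _ _ _⟩ *
        (φ ⟨hX Fr (j, true) (nx j) (-1), hX_memD hA _ _ _⟩)⁻¹ = φ ⟨Fr.X a b (l * m * s), hA.X_mem _ _ _⟩ := by
      intro s
      rw [← map_inv, ← map_mul, ← map_mul]
      congr 1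
      exact Subtype.ext (hc s)
    have hrg : ∀ {k : K0}, k ∈ XQ Fr φ (rep cs (isCartan n) u (sr i)) ↔
        ∃ s, k = φ ⟨Fr.X a b s, hA.X_mem _ _ _⟩ := mem_XQ hA φ hab' e
    rw [hpair, hlm]
    constructor
    · intro h3
      have h4 := h3 (φ ⟨Fr.X a b 1, hA.X_mem _ _ _⟩) (hrg.2 ⟨1, rfl⟩)
      have h5 := hc' 1
      rw [h4, mul_inv_cancel_right] at h5
      have h6 := hinj _ _ hab' _ _ h5
      rw [mul_one] at h6
      exact h6.symm
    · intro h3 y hy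
      obtain ⟨s, rfl⟩ := hrg.1 hy
      have h5 := hc' s
      have h6 : (⟨Fr.X a b (l * m * s), hA.X_mem _ _ _⟩ : G0) = ⟨Fr.X a b s, hA.X_mem _ _ _⟩ := by
        apply Subtype.ext
        change Fr.X a b (l * m * s) = Fr.X a b s
        rw [h3, one_mul]
      rw [h6] at h5
      exact mul_inv_eq_iff_eq_mul.1 h5

section rows

open Cfsg.Agent.Nodes.WittU Cfsg.Agent.Nodes.WittInst Cfsg.Agent.TitsThree.SiegelGen Cfsg.Agent.TitsThree.WBridge
open Cfsg.Agent.LieClassical Cfsg.Agent.LieClassical.OrthCore Cfsg.Agent.LieClassical.OrthTrans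
open Cfsg.Agent.LieClassical.OrthSimple Cfsg.Agent.LieClassical.OrthFinite
open Cfsg.Agent.LieClassical.OrthForms
open Cfsg.Agent.TitsThree.KSideO Cfsg.Agent.TitsThree.StdData Cfsg.Agent.Nodes.WittAll

/-- **`PΩ⁺_{2(n+3)}(F)`** -/
theorem hasIn_pplus {F : Type*} [Field F] [Finite F] (n : ℕ) (h2 : (2 : F) ≠ 0) {p : ℕ} [Fact p.Prime] [CharP F p] :
    HasIn p (Nodes.TypeD.M (n + 1)) (Cfsg.POmega F (Cfsg.quadFormPlus (n + 3) F)) := by
  rw [← coe_plusForm]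
  have hG : Good (plusForm (n + 3) F) := by
    apply good_of_finite (nondeg_plusForm (n + 3) F)
    rw [Module.finrank_fintype_fun_eq_card, Fintype.card_sum, Fintype.card_fin]
    omega
  have hA := amb_plus (F := F) (n + 3)
  have hfin : Finite ((Fin (n + 3) ⊕ Fin (n + 3) → F) ≃ₗ[F] (Fin (n + 3) ⊕ Fin (n + 3) → F)) :=
    Finite.of_injective (fun g : (Fin (n + 3) ⊕ Fin (n + 3) → F) ≃ₗ[F] (Fin (n + 3) ⊕ Fin (n + 3) → F) =>
      (g : (Fin (n + 3) ⊕ Fin (n + 3) → F) → (Fin (n + 3) ⊕ Fin (n + 3) → F))) DFunLike.coe_injective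
  have R := rgdD_model (wplus (n + 3) F) hG hA (adm_plus _) (p := p) (Nodes.TypeD.M (n + 1)).toCoxeterSystem
  have hN0 := nofix_D (Nodes.TypeD.M (n + 1)).toCoxeterSystem hA (by omega) h2
  have hinj : ∀ a b : Fin (n + 3) × Bool, a.1 ≠ b.1 → ∀ s s' : F,
      toPOmega hG ⟨(toFrame (wplus (n + 3) F)).X a b s, hA.X_mem _ _ _⟩ =
        toPOmega hG ⟨(toFrame (wplus (n + 3) F)).X a b s', hA.X_mem _ _ _⟩ → s = s' := by
    intro a b hab s s' h
    obtain ⟨x, hx, ex⟩ := rt_of_ok (cs := (Nodes.TypeD.M (n + 1)).toCoxeterSystem) (a := a) (b := b) hab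
    have h3 : toPOmega hG (⟨(toFrame (wplus (n + 3) F)).X a b s, hA.X_mem _ _ _⟩ *
        (⟨(toFrame (wplus (n + 3) F)).X a b s', hA.X_mem _ _ _⟩)⁻¹) = 1 := by
      rw [map_mul, map_inv, h, mul_inv_cancel]
    have hmem : ∀ s, (⟨(toFrame (wplus (n + 3) F)).X a b s, hA.X_mem _ _ _⟩ : E (plusForm (n + 3) F)) ∈
        (WittRGDD.rg (toFrame (wplus (n + 3) F)) x).subgroupOf (E (plusForm (n + 3) F)) := by
      intro s
      rw [WittRGDD.rg_eq _ hab ex]
      exact Subgroup.mem_subgroupOf.2 ⟨s, rfl⟩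
    have h4 := NoFix.inj hN0 (toPOmega hG) (ker_toPOmega hG) hx (mul_mem (hmem s) (inv_mem (hmem s'))) h3
    have h5 : (toFrame (wplus (n + 3) F)).X a b s = (toFrame (wplus (n + 3) F)).X a b s' :=
      congrArg Subtype.val (mul_inv_eq_one.1 h4)
    exact X_injD hab h5
  refine ⟨Nodes.TypeD.A (n + 1), Nodes.TypeD.isCartan (n + 1), _, _, _,
    Nodes.TypeD.finite_W (Nodes.TypeD.M (n + 1)).toCoxeterSystem, R, ?_, ?_, ?_, ?_, ?_⟩
  · exact H905.Md.gg_top (G1D_eq_top (wplus (n + 3) F) (toPOmega hG) (toPOmega_surjective hG) (adm_plus _) _)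
  · rintro _ ⟨s, hs, rfl⟩ _ ⟨t, ht, rfl⟩
    rw [← map_mul, ← map_mul]
    congr 1
    refine Subtype.ext (H716.RGDAb.tor_comm_of hA.V0 (Subgroup.mem_subgroupOf.1 hs)
      (Subgroup.mem_subgroupOf.1 ht) fun w hw => ?_)
    have hw0 : w = 0 := (Submodule.mem_bot F).1 hw
    rw [hw0, map_zero, map_zero, map_zero]
  · exact hN0.map (fun x hx t ht =>
      (rgd_restrict (rgdD hA (adm_plus _) (p := p) (Nodes.TypeD.M (n + 1)).toCoxeterSystem) (E (plusForm (n + 3) F))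
        (fun x _ => rgD_le (wplus (n + 3) F) hA x) (fun i => WittRGDD.nn_mem hA i)).tor x hx t ht)
      (toPOmega hG) (ker_toPOmega hG)
  · exact fun i => slNode_D hA (toPOmega hG) hinj i
  · exact twFaithful_D hA (toPOmega hG) hinj _ h2 R

end rows

end Cfsg.Agent.H69.OQ
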