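import Cfsg.Agent.H69.OQ.InMinus
import Cfsg.Agent.H69.OQ.InPlus
import Cfsg.Agent.H310.OQ.TwD4
import Cfsg.Agent.H310.OQ.TwE6
import Cfsg.Agent.H310.OQ.Psl
import Cfsg.Agent.H428.OQ.SU
import Cfsg.Agent.H774.OQ.Psl2
import Cfsg.Agent.H774.OQ.Ree
import Cfsg.Agent.H298.OQ.PspOwn
import Cfsg.Agent.H684.OQ.Main

/-!
# S4884, own odd characteristic: the dispatcher (helper69)

**`lieq_of`** : the row `lieq` of `Rows q` from the theory for `HasInB` (used for `PSU_n(Q)`, `n` odd, only).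
-/

set_option autoImplicit false

namespace Cfsg.Agent.H69.OQ

open Cfsg Cfsg.Agent.H706.PB Cfsg.Agent.H684.OQ

theorem two_ne {F : Type} [Field F] [Fintype F] {q : ℕ} [Fact q.Prime] (hq2 : q ≠ 2) [CharP F q] : (2 : F) ≠ 0 := by
  intro h
  have h1 : q ∣ 2 := (CharP.cast_eq_zero_iff F q 2).1 (by exact_mod_cast h)
  exact hq2 ((Nat.prime_dvd_prime_iff_eq (Fact.out : q.Prime) Nat.prime_two).1 h1)

theorem card_odd {F : Type} [Field F] [Fintype F] {q : ℕ} [Fact q.Prime] (hq2 : q ≠ 2) [CharP F q] :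
    Odd (Fintype.card F) := by
  obtain ⟨k, -, hk⟩ := FiniteField.card F q
  rw [hk]
  exact ((Fact.out : q.Prime).odd_of_ne_two hq2).pow

/-- **the row `lieq` of S4884** -/
theorem lieq_of {q : ℕ} [hq : Fact q.Prime] (hq2 : q ≠ 2)
    (hB : ∀ (m : ℕ), 1 ≤ m → ∀ (G : Type) [Group G] [Finite G], IsLieTypeChar q G →
      HasInB q (CoxeterMatrix.B m) G → H706.PB.Row q G) :
    H706.PB.RowFor q (fun X _ => IsLieTypeChar q X) := by
  intro X _ _ _ hna hd hL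
  -- the transfer
  have key : ∀ (l : ℕ) (M : CoxeterMatrix (Fin l)) (G : Type) [Group G], 0 < l → HasIn q M G →
      Nonempty (X ≃* G) → Row q X := by
    intro l M G _ hl hI ⟨e⟩
    have hfin : Finite G := Finite.of_equiv _ e.toEquiv
    have : Nonempty (Fin l) := ⟨⟨0, hl⟩⟩
    exact row_of_hasIn hq2 hL (H310.OQ.hasIn_of_equiv e.symm hI)
  have hno : NoOut q X := H690.OwnD.noOut_own hL
  rcases hL with h | h | h | h | h | h | h | h | h | h | h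
  · -- `PSL`
    obtain ⟨F, _, _, _, n, hn, hn2, ⟨e⟩⟩ := h
    rcases Nat.lt_or_ge 2 n with h3 | h3
    · obtain ⟨m, rfl⟩ : ∃ m, n = m + 1 := ⟨n - 1, by omega⟩
      exact key m _ _ (by omega) (H310.OQ.Psl.hasIn_psl (by omega) (two_ne hq2) q) ⟨e⟩
    · obtain rfl : n = 2 := by omega
      exact Or.inr ⟨H774.OQ.rowB_psl2 hq2 (hn2 rfl) hna e, Or.inr hno⟩
  · -- `PSp`
    obtain ⟨F, _, _, _, m, hm, -, ⟨e⟩⟩ := h
    exact Or.inr ⟨RowB.congr e (H298.OQ.rowB_psp hq.out hq2 F hm), Or.inr hno⟩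
  · -- `PSU`
    obtain ⟨F, _, _, hF, n, r, hr, hn, hn2, ⟨e⟩⟩ := h
    have hodd : Odd r := by
      have h1 := card_odd (F := F) hq2
      rw [hr] at h1
      exact (Nat.odd_pow_iff (by norm_num)).1 h1
    obtain ⟨m, hm⟩ : ∃ m, n = 2 * m ∨ n = 2 * m + 1 := ⟨n / 2, by omega⟩
    rcases hm with rfl | rfl
    · exact key _ _ _ (by omega) (hasIn_psu hr hodd (m := m) (by omega) (p := q)) ⟨e⟩
    · have hfin : Finite (PSU (2 * m + 1) F r) := Finite.of_equiv _ e.toEquiv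
      have hL' : IsLieTypeChar q (PSU (2 * m + 1) F r) :=
        Or.inr (Or.inr (Or.inl ⟨F, inferInstance, inferInstance, hF, 2 * m + 1, r, hr, hn, hn2, ⟨MulEquiv.refl _⟩⟩))
      exact Row.congr e (hB m (by omega) _ hL' (H428.OQ.hasInB_psu_odd hr hodd (by omega)))
  · -- `PΩ` odd
    obtain ⟨F, _, _, _, m, hm, -, ⟨e⟩⟩ := h
    exact key _ _ _ (by omega) (hasIn_podd (two_ne hq2) hm (p := q)) ⟨e⟩
  · -- `PΩ⁺`
    obtain ⟨F, _, _, _, m, hm, ⟨e⟩⟩ := h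
    obtain ⟨k, rfl⟩ : ∃ k, m = k + 3 := ⟨m - 3, by omega⟩
    exact key _ _ _ (by omega) (hasIn_pplus (F := F) k (two_ne hq2) (p := q)) ⟨e⟩
  · -- `PΩ⁻`
    obtain ⟨F, _, _, _, m, a, b, hm, hab, ⟨e⟩⟩ := h
    exact key _ _ _ (by omega) (hasIn_pminus (m := m - 1) hab (two_ne hq2) (by omega) (p := q)) ⟨e⟩
  · -- exceptional
    obtain ⟨F, _, _, _, ⟨-, e⟩ | e | e | e | e⟩ := h
    · exact key 2 _ _ (by omega) (H310.OQ.hasIn_G2 F q (two_ne hq2)) e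
    · exact key 4 _ _ (by omega) (H310.OQ.hasIn_F4 F q (two_ne hq2)) e
    · exact key 6 _ _ (by omega) (H310.OQ.hasIn_E6 F q (two_ne hq2)) e
    · exact key 7 _ _ (by omega) (H310.OQ.hasIn_E7 F q (two_ne hq2)) e
    · exact key 8 _ _ (by omega) (H310.OQ.hasIn_E8 F q (two_ne hq2)) e
  · -- twisted
    obtain ⟨K, _, _, _, r, hr, ⟨hK, e⟩ | ⟨hK, e⟩⟩ := h
    · exact key 4 _ _ (by omega) (H310.OQ.TwE6.hasIn_twE6 hr hK q (two_ne hq2)) e
    · exact key 2 _ _ (by omega) (H310.OQ.TwD4.hasIn_twD4 hr hK q (two_ne hq2)) e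
  · exact absurd h.1 hq2
  · exact absurd h.1 hq2
  · obtain ⟨h3, h⟩ := h
    subst h3
    exact Or.inr ⟨H774.OQ.rowB_ree hna h, Or.inr hno⟩

end Cfsg.Agent.H69.OQ
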