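import Cfsg.Agent.Nodes.BNOf

/-!
# S4884, own characteristic, `r` odd: the fixed points of the Sylow 2-subgroup of the torus (helper69)

`NoFix cs h T X` : no root group `X x` has a nontrivial element commuting with all `2`-elements of `T`.
-/

set_option autoImplicit false

namespace Cfsg.Agent.H69.OQ

open CoxeterSystem Cfsg.Agent.ChevalleyStructure.CoxeterGeom Cfsg.Agent.Tits.Roots

variable {I W Y : Type*} [Fintype I] [DecidableEq I] [Group W] [Group Y] {M : CoxeterMatrix I}

/-- No nontrivial element of a root group commutes with all `2`-elements of `T`. -/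
def NoFix (cs : CoxeterSystem M W) {A : I → I → ℤ} (h : IsCartan M A) (T : Subgroup Y)
    (X : (I → ℤ) → Subgroup Y) : Prop :=
  ∀ x, IsRoot cs h x → ∀ u ∈ X x, (∀ t ∈ T, (∃ k : ℕ, t ^ 2 ^ k = 1) → t * u = u * t) → u = 1

end Cfsg.Agent.H69.OQ
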