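import Cfsg.Agent.H69.OQ.InNode
import Cfsg.Agent.H905.MdK

/-!
# S4884, own odd characteristic: `HasIn` for the Witt frames (helper69)

* `twFaithful_C`; `hasIn_C` : `HasIn` from the last node, `NoFix` and the commutativity on the anisotropic part;
* `slNode_zero` : the last node when the anisotropic part is zero.
-/

set_option autoImplicit false
set_option linter.unusedSectionVars false

namespace Cfsg.Agent.H69.OQ

open Cfsg.Agent.ChevalleyStructure.CoxeterGeom Cfsg.Agent.Tits.Roots Cfsg.Agent.Nodes.TypeC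
open Cfsg.Agent.Nodes Cfsg.Agent.Nodes.Comb Cfsg.Agent.Nodes.Reps Cfsg.Agent.Nodes.WittRoot Cfsg.Agent.Nodes.BNOf
open Cfsg.Agent.Nodes.WittRGD Cfsg.Agent.Nodes.RGDLib Cfsg.Agent.H684.OQ Cfsg.Agent.Nodes.WittAll
open Cfsg.Agent.TitsThree Cfsg.Agent.TitsThree.Siegel Cfsg.Agent.TitsThree.WittFrame
  Cfsg.Agent.TitsThree.WittWeyl Cfsg.Agent.TitsThree.FrameCN

variable {F : Type*} [Field F] {V : Type*} [AddCommGroup V] [Module F V] {H : HForm F V} {n : ℕ}
  {Fr : Frame H (Fin n)} {K0 : Type*} [Group K0] (M : Model Fr K0)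

/-- the roots of the orbit of a node `i + 1 < n` -/
theorem exists_of_rep {W : Type*} [Group W] (cs : CoxeterSystem (CoxeterMatrix.B n) W) {i : Fin n}
    (hi : (i : ℕ) + 1 < n) (u : W) :
    ∃ a b : Fin n × Bool, a.1 ≠ b.1 ∧ ee (rep cs (isCartan n) u (sr i)) = wt a + wt b := by
  induction u using cs.simple_induction_left with
  | one =>
    rw [map_one, Module.End.one_apply]
    exact ⟨(i, true), nx i, nx_ne hi, ee_sr i⟩
  | mul_simple_left w j ih =>
    obtain ⟨a, b, hab, h⟩ := ih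
    exact ⟨sg j a, sg j b, fun h' => hab ((sg_fst_eq j).1 h'), by rw [rep_mul_apply, rep_simple, ee_refl_of h]⟩

/-- the scalar of `h_j(-1)` on the vector `b z` -/
theorem hX_neg_one (h2 : (2 : F) ≠ 0) {j : Fin n} (hj : (j : ℕ) + 1 < n) (z : Fin n × Bool) :
    ∃ l : F, hX Fr (j, true) (nx j) (-1) (Fr.b z) = l • Fr.b z ∧ (l = 1 ∨ l = -1) ∧ (Even (Cf j (wt z)) ↔ l = 1) := by
  have hne := nx_ne hj
  have h1 : (-1 : F) ≠ 0 := neg_ne_zero.2 one_ne_zero
  have h11 : (-1 : F) ≠ 1 := by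
    intro h
    apply h2
    have : (1 : F) + 1 = 0 := by nth_rewrite 1 [← h]; ring
    rw [← this]; norm_num
  have hnx : (nx j).1 = (⟨j + 1, hj⟩ : Fin n) := by unfold nx; rw [dif_pos hj]
  have hCf : Cf j (wt z) = wt z j - wt z ⟨j + 1, hj⟩ := by unfold Cf; rw [dif_pos hj]
  have hjj : (⟨(j : ℕ) + 1, hj⟩ : Fin n) ≠ j := by simp [Fin.ext_iff]
  by_cases hz1 : z.1 = j
  · have e : Cf j (wt z) = if z.2 then 1 else -1 := by
      have h' : ¬ ((⟨j + 1, hj⟩ : Fin n) = z.1) := by rw [hz1]; exact hjj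
      rw [hCf, wt_apply, wt_apply, if_pos hz1.symm, if_neg h', sub_zero]
    have hodd : ¬ Even (Cf j (wt z)) := by
      rw [e]; split_ifs <;> decide
    refine ⟨-1, ?_, Or.inr rfl, fun h => absurd h hodd, fun h => absurd h h11⟩
    rcases eq_or_ng (a := z) (b := (j, true)) hz1 with rfl | rfl
    · exact hX_a Fr hne h1
    · have e3 : hX Fr (j, true) (nx j) (-1) (Fr.b (ng (j, true))) = _ := hX_na Fr hne h1
      rw [e3, map_neg, map_one, inv_neg, inv_one]
      rfl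
  by_cases hz2 : z.1 = (nx j).1
  · have e : Cf j (wt z) = -(if z.2 then 1 else -1) := by
      rw [hCf, wt_apply, wt_apply, if_neg (fun h => hz1 h.symm), if_pos (by rw [hz2, hnx]), zero_sub]
    have hodd : ¬ Even (Cf j (wt z)) := by
      rw [e]; split_ifs <;> decide
    refine ⟨-1, ?_, Or.inr rfl, fun h => absurd h hodd, fun h => absurd h h11⟩
    rcases eq_or_ng hz2 with rfl | rfl
    · rw [hX_b Fr hne h1, map_neg, map_one]
    · have e3 : hX Fr (j, true) (nx j) (-1) (Fr.b (ng (nx j))) = _ := hX_nb Fr hne h1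
      rw [e3, inv_neg, inv_one]
      rfl
  · have e : Cf j (wt z) = 0 := by
      rw [hCf, wt_apply, wt_apply, if_neg (fun h => hz1 h.symm), if_neg (fun h => hz2 (by rw [hnx]; exact h.symm)),
        sub_zero]
    refine ⟨1, by rw [hX_ne Fr hne hz1 hz2, one_smul], Or.inl rfl, fun _ => rfl, fun _ => by rw [e]; exact Even.zero⟩

/-- **`TWFaithful` for the Witt frames** -/
theorem twFaithful_C {p : ℕ} {W : Type*} [Group W] (cs : CoxeterSystem (CoxeterMatrix.B n) W) (hA : Amb Fr M.I)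
    (h2 : (2 : F) ≠ 0) {nw : Fin n → K0} (R : RGD cs (isCartan n) p (WittModel.T M) nw (WittModel.X M)) :
    TWFaithful cs (WittModel.T M) nw R.nsys := by
  have h1 : (-1 : F) ≠ 0 := neg_ne_zero.2 one_ne_zero
  have h11 : (-1 : F) ≠ 1 := by
    intro h
    apply h2
    have : (1 : F) + 1 = 0 := by nth_rewrite 1 [← h]; ring
    rw [← this]; norm_num
  refine H69.OQ.twFaithful_gen R (S := {j : Fin n | (j : ℕ) + 1 < n}) ?_
    (fun j => M.φ ⟨hX Fr (j, true) (nx j) (-1), hX_mem M _ _ _⟩) ?_ ?_ ?_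
  · intro i hi k
    have hi' : ¬ (i : ℕ) + 1 < n := hi
    have hk := k.2
    rw [A_apply]
    split_ifs with c1 c2 c3
    · exact even_two
    · exact ⟨-1, rfl⟩
    · omega
    · exact Even.zero
  · intro j hj
    exact Subgroup.mem_map_of_mem _ (Subgroup.mem_subgroupOf.2 ⟨hX_mem M _ _ _, mono_hX Fr (nx_ne hj) h1⟩)
  · intro j hj
    refine ⟨1, ?_⟩
    have h3 : hX Fr (j, true) (nx j) (-1) ^ 2 ^ 1 = 1 := hX_pow Fr (nx_ne hj) h1 hA (by norm_num)
    change M.φ _ ^ 2 ^ 1 = 1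
    rw [← map_pow]
    have : (⟨hX Fr (j, true) (nx j) (-1), hX_mem M _ _ _⟩ : M.I) ^ 2 ^ 1 = 1 := Subtype.ext h3
    rw [this, map_one]
  · intro j hj i hi u
    obtain ⟨a, b, hab, e⟩ := exists_of_rep cs hi u
    obtain ⟨l, hl, hl1, hle⟩ := hX_neg_one (Fr := Fr) h2 hj a
    obtain ⟨m, hm, hm1, hme⟩ := hX_neg_one (Fr := Fr) h2 hj b
    have hpair : pairing (TypeC.A n) j (rep cs (isCartan n) u (sr i)) = Cf j (wt a) + Cf j (wt b) := by
      rw [← Cf_ee, e, Cf_add]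
    have hσ : H.σ m = m := by
      rcases hm1 with rfl | rfl
      · exact map_one _
      · rw [map_neg, map_one]
    have hlm : (Even (Cf j (wt a) + Cf j (wt b)) ↔ l * m = 1) := by
      rw [Int.even_add, hle, hme]
      rcases hl1 with rfl | rfl <;> rcases hm1 with rfl | rfl
      · simp
      · simp [h11]
      · simp [h11]
      · simp [h11]
    have hc : ∀ s, hX Fr (j, true) (nx j) (-1) * Fr.X a b s * (hX Fr (j, true) (nx j) (-1))⁻¹ =
        Fr.X a b (l * m * s) := by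
      intro s
      rw [conj_X Fr (hA.iso _ (hX_mem M _ _ _)) hab hab hl hm, hσ]
      congr 1
      have := Fr.η_ne b
      field_simp
    have hc' : ∀ s, M.φ ⟨hX Fr (j, true) (nx j) (-1), hX_mem M _ _ _⟩ * M.φ ⟨Fr.X a b s, M.hX _ _ _⟩ *
        (M.φ ⟨hX Fr (j, true) (nx j) (-1), hX_mem M _ _ _⟩)⁻¹ = M.φ ⟨Fr.X a b (l * m * s), M.hX _ _ _⟩ := by
      intro s
      rw [← map_inv, ← map_mul, ← map_mul]
      congr 1
      exact Subtype.ext (hc s)
    have hrg : WittRoot.rg Fr (rep cs (isCartan n) u (sr i)) = XG Fr a b := by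
      rw [rg_eq Fr (Or.inl hab) e, PG_ne Fr hab]
    rw [hpair, hlm]
    constructor
    · intro h3
      have h4 := h3 (M.φ ⟨Fr.X a b 1, M.hX _ _ _⟩) (WittModel.mem_X_of M _ (by rw [hrg]; exact ⟨1, rfl⟩))
      have h5 := hc' 1
      rw [h4, mul_inv_cancel_right] at h5
      have h6 := model_X_inj M hab h5
      rw [mul_one] at h6
      exact h6.symm
    · intro h3 y hy
      obtain ⟨g, hg, hgx, rfl⟩ := (WittModel.mem_X M).1 hy
      rw [hrg] at hgx
      obtain ⟨s, rfl⟩ := hgx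
      have h5 := hc' s
      have h6 : (⟨Fr.X a b (l * m * s), M.hX _ _ _⟩ : M.I) = ⟨Fr.X a b s, hg⟩ := by
        apply Subtype.ext
        change Fr.X a b (l * m * s) = Fr.X a b s
        rw [h3, one_mul]
      rw [h6] at h5
      exact mul_inv_eq_iff_eq_mul.1 h5

/-- **`HasIn` for a Witt frame** -/
theorem hasIn_C {p : ℕ} (hA : Amb Fr M.I) [Finite V] [Finite F] [Fact p.Prime] [CharP F p] (h2 : (2 : F) ≠ 0)
    {p0 : Fr.Adm} (hp0 : p0.c ≠ 0) (hn : 0 < n)
    (hT : ∀ s ∈ Tor Fr M.I, ∀ t ∈ Tor Fr M.I, ∀ w ∈ Fr.V0, s (t w) = t (s w))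
    (hN : NoFix (CoxeterMatrix.B n).toCoxeterSystem (isCartan n) (WittModel.T M) (WittModel.X M))
    {K : Type*} [Group K] [Finite K] (P : K → Fr.Adm) (hinj : Function.Injective P) (hP : ∀ k, (P k).c ≠ 0)
    (hsurj : ∀ p : Fr.Adm, p.c ≠ 0 → ∃ k, P k = p)
    (hmul : ∀ (a : Fin n × Bool) (k k' : K), nZ Fr a (P (k * k')) * (nZ Fr a p0)⁻¹ =
      (nZ Fr a (P k) * (nZ Fr a p0)⁻¹) * (nZ Fr a (P k') * (nZ Fr a p0)⁻¹)) :
    HasIn p (CoxeterMatrix.B n) K0 := by
  have hAT := AmbT.of_amb hA p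
  have R := rgdC_model M hAT hp0 (CoxeterMatrix.B n).toCoxeterSystem
  refine ⟨TypeC.A n, isCartan n, WittModel.T M, _, WittModel.X M,
    TypeC.finite_W (CoxeterMatrix.B n).toCoxeterSystem, R, ?_, ?_, hN, ?_, twFaithful_C M _ hA h2 R⟩
  · exact H905.Md.gg_top (WittModel.G1_eq_top M hn _)
  · rintro _ ⟨s, hs, rfl⟩ _ ⟨t, ht, rfl⟩
    rw [← map_mul, ← map_mul]
    congr 1
    exact Subtype.ext (H716.RGDAb.tor_comm_of hA.V0 (Subgroup.mem_subgroupOf.1 hs) (Subgroup.mem_subgroupOf.1 ht)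
      (hT _ (Subgroup.mem_subgroupOf.1 hs) _ (Subgroup.mem_subgroupOf.1 ht)))
  · intro i
    by_cases hi : (i : ℕ) + 1 < n
    · exact slNode_X M hA hi _
    · exact slNode_Z M _ hA hp0 hi _ R P hinj hP hsurj (hmul (i, true))

end Cfsg.Agent.H69.OQ
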