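import Cfsg.Agent.H69.OQ.InRows

/-!
# S4884, own odd characteristic: `HasIn` for the orthogonal groups of minus type (helper69)

The last node is parametrised by the units of the quadratic field `F[ω]`, `ω² = a ω - b`, acting on the anisotropic plane.
-/

set_option autoImplicit false
set_option linter.unusedSectionVars false

namespace Cfsg.Agent.H69.OQ

open Cfsg QuadraticMap
open Cfsg.Agent.ChevalleyStructure.CoxeterGeom Cfsg.Agent.Tits.Roots Cfsg.Agent.Nodes.TypeC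
open Cfsg.Agent.Nodes Cfsg.Agent.Nodes.Comb Cfsg.Agent.Nodes.Reps Cfsg.Agent.Nodes.WittRoot Cfsg.Agent.Nodes.BNOf
open Cfsg.Agent.Nodes.WittRGD Cfsg.Agent.Nodes.RGDLib Cfsg.Agent.H684.OQ Cfsg.Agent.Nodes.WittAll
open Cfsg.Agent.TitsThree Cfsg.Agent.TitsThree.Siegel Cfsg.Agent.TitsThree.WittFrame
  Cfsg.Agent.TitsThree.WittWeyl Cfsg.Agent.TitsThree.FrameCN
open Cfsg.Agent.Nodes.WittU Cfsg.Agent.Nodes.WittInst Cfsg.Agent.TitsThree.SiegelGen Cfsg.Agent.TitsThree.WBridge
open Cfsg.Agent.LieClassical Cfsg.Agent.LieClassical.OrthCore Cfsg.Agent.LieClassical.OrthTrans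
open Cfsg.Agent.LieClassical.OrthSimple Cfsg.Agent.LieClassical.OrthFinite
open Cfsg.Agent.LieClassical.OrthForms
open Cfsg.Agent.TitsThree.KSideO Cfsg.Agent.TitsThree.StdData

variable {F : Type*} [Field F] {a b : F}

/-- the quadratic field of the anisotropic plane -/
abbrev LL (a b : F) := QuadraticAlgebra F (-b) a

/-- the norm -/
def NN (z : LL a b) : F := z.re ^ 2 + a * z.re * z.im + b * z.im ^ 2

theorem NN_mul (z z' : LL a b) : NN (z * z') = NN z * NN z' := by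
  simp only [NN, QuadraticAlgebra.re_mul, QuadraticAlgebra.im_mul]
  ring

theorem NN_one : NN (1 : LL a b) = 1 := by
  simp [NN, QuadraticAlgebra.re_one, QuadraticAlgebra.im_one]

theorem NN_unit (u : (LL a b)ˣ) : NN (u : LL a b) ≠ 0 := by
  intro h
  have h1 := NN_mul (u : LL a b) ((u⁻¹ : (LL a b)ˣ) : LL a b)
  rw [Units.mul_inv, NN_one, h, zero_mul] at h1
  exact one_ne_zero h1

theorem exists_unit {z : LL a b} (hz : NN z ≠ 0) : ∃ u : (LL a b)ˣ, (u : LL a b) = z := by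
  have h1 : z * ((NN z)⁻¹ • (⟨z.re + a * z.im, -z.im⟩ : LL a b)) = 1 := by
    apply QuadraticAlgebra.ext
    · simp only [QuadraticAlgebra.re_mul, QuadraticAlgebra.re_smul, QuadraticAlgebra.im_smul,
        QuadraticAlgebra.re_one, smul_eq_mul]
      have h2 : NN z * (NN z)⁻¹ = 1 := mul_inv_cancel₀ hz
      have h3 : NN z = z.re ^ 2 + a * z.re * z.im + b * z.im ^ 2 := rfl
      rw [← h2]
      nth_rewrite 3 [h3]
      ring
    · simp only [QuadraticAlgebra.im_mul, QuadraticAlgebra.re_smul, QuadraticAlgebra.im_smul,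
        QuadraticAlgebra.im_one, smul_eq_mul]
      ring
  exact ⟨⟨z, _, h1, by rw [mul_comm]; exact h1⟩, rfl⟩

variable (hab : ∀ z₁ z₂ : F, z₁ ^ 2 + a * z₁ * z₂ + b * z₂ ^ 2 = 0 → z₁ = 0 ∧ z₂ = 0) (m : ℕ)

/-- the vector of the plane -/
def vv (z : LL a b) : (Fin m ⊕ Fin m) ⊕ Fin 2 → F := (embMinus m F a b hab).j (z.re, z.im)

/-- the admissible pair of an element of the quadratic field -/
def PP (z : LL a b) : (toFrame (wminus m F a b hab)).Adm :=
  (embMinus m F a b hab).ngt ⟨(z.re, z.im), -nf a b (z.re, z.im), rfl⟩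

theorem PP_w (z : LL a b) : (PP hab m z).w = vv hab m z := rfl

theorem PP_c (z : LL a b) : (PP hab m z).c = -NN z := by
  change (1 : F)⁻¹ * (-nf a b (z.re, z.im)) = _
  rw [inv_one, one_mul]
  rfl

theorem vv_add_smul (z z' : LL a b) (c : F) : vv hab m z + c • vv hab m z' = vv hab m (z + c • z') := by
  unfold vv
  rw [← map_smul, ← map_add]
  rfl

theorem vv_mem (z : LL a b) : vv hab m z ∈ (toFrame (wminus m F a b hab)).V0 :=
  (toFrame (wminus m F a b hab)).ok_mem (PP hab m z).ok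

theorem exists_vv {w : (Fin m ⊕ Fin m) ⊕ Fin 2 → F} (hw : w ∈ (toFrame (wminus m F a b hab)).V0) :
    ∃ z : LL a b, w = vv hab m z := by
  have hw' : ∀ j, w (Sum.inl j) = 0 := hw
  refine ⟨⟨w (Sum.inr 0), w (Sum.inr 1)⟩, ?_⟩
  funext j
  rcases j with j | j
  · rw [hw']; rfl
  · fin_cases j <;> rfl

/-- the polar form -/
def BB (z z' : LL a b) : F := 2 * z.re * z'.re + a * (z.re * z'.im + z.im * z'.re) + 2 * b * z.im * z'.im

theorem h_vv (z z' : LL a b) : (HO (minusForm m F a b)).h (vv hab m z) (vv hab m z') = BB z z' :=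
  (embMinus m F a b hab).h_eq _ _

theorem nZ_vv (x : Fin m × Bool) {z : LL a b} (hz : NN z ≠ 0) (ζ : LL a b) :
    nZ (toFrame (wminus m F a b hab)) x (PP hab m z) (vv hab m ζ) =
      vv hab m (ζ + (-((NN z)⁻¹ * BB ζ z)) • z) := by
  have hc : (PP hab m z).c ≠ 0 := by rw [PP_c]; exact neg_ne_zero.2 hz
  rw [nZ_apply_V0 _ x _ hc (vv_mem hab m ζ), ← vv_add_smul, PP_w, PP_c]
  congr 2
  change (1 : F)⁻¹ * (-NN z)⁻¹ * (HO (minusForm m F a b)).h (vv hab m ζ) (vv hab m z) = _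
  rw [h_vv, inv_one, one_mul, inv_neg, neg_mul]

theorem dZ_vv (x : Fin m × Bool) {k : LL a b} (hk : NN k ≠ 0) (ζ : LL a b) :
    dZ (toFrame (wminus m F a b hab)) x (PP hab m 1) (PP hab m k) (vv hab m ζ) =
      vv hab m ((NN k)⁻¹ • (k * k * ζ)) := by
  have h1 : NN (1 : LL a b) ≠ 0 := by rw [NN_one]; exact one_ne_zero
  have h3 : nZ (toFrame (wminus m F a b hab)) x (PP hab m 1) (vv hab m ⟨-ζ.re - a * ζ.im, ζ.im⟩) = vv hab m ζ := by
    rw [nZ_vv hab m x h1, NN_one]
    congr 1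
    apply QuadraticAlgebra.ext
    · simp only [BB, QuadraticAlgebra.re_add, QuadraticAlgebra.re_smul, QuadraticAlgebra.re_one,
        QuadraticAlgebra.im_one, smul_eq_mul]
      ring
    · simp only [BB, QuadraticAlgebra.im_add, QuadraticAlgebra.im_smul, QuadraticAlgebra.re_one,
        QuadraticAlgebra.im_one, smul_eq_mul]
      ring
  have h4 : (nZ (toFrame (wminus m F a b hab)) x (PP hab m 1))⁻¹ (vv hab m ζ) =
      vv hab m ⟨-ζ.re - a * ζ.im, ζ.im⟩ := by
    rw [← h3, ← mul_apply', inv_mul_cancel]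
    rfl
  rw [dZ, mul_apply', h4, nZ_vv hab m x hk]
  congr 1
  have h5 : NN k * (NN k)⁻¹ = 1 := mul_inv_cancel₀ hk
  have h6 : NN k = k.re ^ 2 + a * k.re * k.im + b * k.im ^ 2 := rfl
  have h7 : (k.re ^ 2 + a * k.re * k.im + b * k.im ^ 2) * (NN k)⁻¹ = 1 := by rw [← h6]; exact h5
  apply QuadraticAlgebra.ext
  · simp only [BB, QuadraticAlgebra.re_add, QuadraticAlgebra.re_smul, QuadraticAlgebra.re_mul,
      QuadraticAlgebra.im_mul, smul_eq_mul]
    linear_combination (ζ.re + a * ζ.im) * h7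
  · simp only [BB, QuadraticAlgebra.im_add, QuadraticAlgebra.im_smul, QuadraticAlgebra.re_mul,
      QuadraticAlgebra.im_mul, smul_eq_mul]
    linear_combination (-ζ.im) * h7

theorem comm_minus [Finite F] (h2 : (2 : F) ≠ 0) (hm : 2 ≤ m) {p : ℕ} [Fact p.Prime] [CharP F p]
    (hA : Amb (toFrame (wminus m F a b hab)) (E (minusForm m F a b))) :
    ∀ s ∈ Tor (toFrame (wminus m F a b hab)) (E (minusForm m F a b)),
      ∀ t ∈ Tor (toFrame (wminus m F a b hab)) (E (minusForm m F a b)),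
      ∀ w ∈ (toFrame (wminus m F a b hab)).V0, s (t w) = t (s w) := by
  have hG : Good (minusForm m F a b) := by
    apply good_of_finite (nondeg_minusForm m F a b hab)
    rw [Module.finrank_fintype_fun_eq_card, Fintype.card_sum, Fintype.card_sum, Fintype.card_fin,
      Fintype.card_fin]
    omega
  have hAT := AmbT.of_amb hA p
  have hV0 : ∀ g ∈ Tor (toFrame (wminus m F a b hab)) (E (minusForm m F a b)),
      ∀ w ∈ (toFrame (wminus m F a b hab)).V0, g w ∈ (toFrame (wminus m F a b hab)).V0 :=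
    fun g hg w hw => hAT.map_V0 hg.1 hg.2 (ρ := id) (fun _ => rfl) hw
  intro s hs t ht w hw
  obtain ⟨x, z, hs0, hs1⟩ := H716.RGDAb.exists_rot hab h2 hG hV0 hs
  obtain ⟨x', z', ht0, ht1⟩ := H716.RGDAb.exists_rot hab h2 hG hV0 ht
  have hw' : ∀ j, w (Sum.inl j) = 0 := hw
  have hwe : w = w (Sum.inr 0) • H716.RGDAb.e0 m F + w (Sum.inr 1) • H716.RGDAb.e1 m F := by
    funext j
    rcases j with j | j
    · rw [hw']; simp [H716.RGDAb.e0, H716.RGDAb.e1]
    · fin_cases j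
      · simp [H716.RGDAb.e0, H716.RGDAb.e1]
      · simp [H716.RGDAb.e0, H716.RGDAb.e1]
  have c0 : s (t (H716.RGDAb.e0 m F)) = t (s (H716.RGDAb.e0 m F)) := by
    rw [ht0, hs0, map_add, map_smul, map_smul, map_add, map_smul, map_smul, ht0, ht1, hs0, hs1]
    simp only [smul_add, smul_smul]
    module
  have c1 : s (t (H716.RGDAb.e1 m F)) = t (s (H716.RGDAb.e1 m F)) := by
    rw [ht1, hs1, map_add, map_smul, map_smul, map_add, map_smul, map_smul, ht0, ht1, hs0, hs1]
    simp only [smul_add, smul_smul]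
    module
  rw [hwe]
  simp only [map_add, map_smul]
  rw [c0, c1]

/-- **`PΩ⁻_{2m+2}(F)`**, `m ≥ 3` -/
theorem hasIn_pminus {F : Type*} [Field F] [Finite F] {m : ℕ} {a b : F}
    (hab : ∀ z₁ z₂ : F, z₁ ^ 2 + a * z₁ * z₂ + b * z₂ ^ 2 = 0 → z₁ = 0 ∧ z₂ = 0)
    (h2 : (2 : F) ≠ 0) (hm : 3 ≤ m) {p : ℕ} [Fact p.Prime] [CharP F p] :
    HasIn p (CoxeterMatrix.B m) (Cfsg.POmega F (Cfsg.quadFormMinus m F a b)) := by
  rw [← coe_minusForm]
  have hG : Good (minusForm m F a b) := by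
    apply good_of_finite (nondeg_minusForm m F a b hab)
    rw [Module.finrank_fintype_fun_eq_card, Fintype.card_sum, Fintype.card_sum, Fintype.card_fin,
      Fintype.card_fin]
    omega
  have hA := amb_O_of_two (wminus m F a b hab) h2
  have hp : (PP hab m 1).c ≠ 0 := by rw [PP_c, NN_one]; exact neg_ne_zero.2 one_ne_zero
  have hfin : Finite (LL a b) := Finite.of_equiv _ (QuadraticAlgebra.equivProd (-b) a).symm
  have hP0 : ∀ u : (LL a b)ˣ, (PP hab m (u : LL a b)).c ≠ 0 := fun u => by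
    rw [PP_c]
    exact neg_ne_zero.2 (NN_unit u)
  have hvinj : Function.Injective (vv hab m) := by
    intro z z' h
    apply QuadraticAlgebra.ext
    · exact congrFun h (Sum.inr 0)
    · exact congrFun h (Sum.inr 1)
  refine hasIn_C (model (wminus m F a b hab) hG ⟨_, hp⟩) hA h2 hp (by omega)
    (comm_minus hab m h2 (by omega) (p := p) hA) (nofix_orth _ _ hA hm h2 (fun _ => rfl) rfl)
    (K := (LL a b)ˣ) (fun u => PP hab m (u : LL a b)) (fun u u' h => ?_) hP0 (fun q hq => ?_) (fun x k k' => ?_)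
  · exact Units.ext (hvinj (congrArg Frame.Adm.w h))
  · obtain ⟨z, hz⟩ := exists_vv hab m ((toFrame (wminus m F a b hab)).ok_mem q.ok)
    have hqc : q.c = -NN z := by
      rw [← PP_c hab m z, (PP hab m z).ok.2, q.ok.2, PP_w, hz]
    have hz0 : NN z ≠ 0 := by
      intro h
      apply hq
      rw [hqc, h, neg_zero]
    obtain ⟨u, rfl⟩ := exists_unit hz0
    exact ⟨u, Frame.Adm.ext (by rw [PP_w, hz]) (by rw [PP_c, hqc])⟩
  · refine dZ_mul_of hA x hp (hP0 k) (hP0 k') (hP0 _) ?_ fun v hv => ?_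
    · rw [PP_c, PP_c, PP_c, PP_c, NN_one, Units.val_mul, NN_mul]
      ring
    · obtain ⟨ζ, rfl⟩ := exists_vv hab m hv
      rw [dZ_vv hab m x (NN_unit _), dZ_vv hab m x (NN_unit _), dZ_vv hab m x (NN_unit _)]
      congr 1
      rw [Units.val_mul, NN_mul, mul_smul_comm, smul_smul, mul_inv]
      congr 1
      ring

end Cfsg.Agent.H69.OQ
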