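import Cfsg.Agent.H69.OQ.Rows
import Cfsg.Agent.H69.OQ.Faith
import Cfsg.Agent.H716.RGDAbMinus

/-!
# S4884, own odd characteristic: the nodes of the Witt frames (helper69)

* `slNode_of` : `SLNode` from a group `K` of any universe and a parametrisation of `X (sr i) - 1`;
* `slNode_X` : the nodes `i + 1 < n`; `slNode_Z` : the last node;
* `twFaithful_C` : `TWFaithful`.
-/

set_option autoImplicit false
set_option linter.unusedSectionVars false

namespace Cfsg.Agent.H69.OQ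

open Cfsg.Agent.ChevalleyStructure.CoxeterGeom Cfsg.Agent.Tits.Roots Cfsg.Agent.Nodes.TypeC
open Cfsg.Agent.Nodes Cfsg.Agent.Nodes.Comb Cfsg.Agent.Nodes.Reps Cfsg.Agent.Nodes.WittRoot Cfsg.Agent.Nodes.BNOf
open Cfsg.Agent.Nodes.WittRGD Cfsg.Agent.Nodes.RGDLib Cfsg.Agent.H684.OQ
open Cfsg.Agent.TitsThree Cfsg.Agent.TitsThree.Siegel Cfsg.Agent.TitsThree.WittFrame
  Cfsg.Agent.TitsThree.WittWeyl Cfsg.Agent.TitsThree.FrameCN

/-- `SLNode` from a parametrisation of `X (sr i) - 1` by a finite group of any universe -/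
theorem slNode_of {I : Type*} {Y : Type*} [DecidableEq I] [Group Y] {T : Subgroup Y} {n : I → Y}
    {X : (I → ℤ) → Subgroup Y} {i : I} {K : Type*} [Group K] [Finite K] (f : K →* Y) (hf : ∀ k, f k ∈ T) (g : K → Y)
    (hg : ∀ k, g k ∈ X (sr i)) (hg1 : ∀ k, g k ≠ 1) (hinj : Function.Injective g)
    (hsurj : ∀ x ∈ X (sr i), x ≠ 1 → ∃ k, g k = x)
    (hn : ∀ k, ∃ a ∈ X (sr i), ∃ b ∈ X (sr i), n i * g k * (n i)⁻¹ = a * f k * n i * b) : SLNode T n X i := by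
  let e0 : K ≃ {x : Y // x ∈ X (sr i) ∧ x ≠ 1} := Equiv.ofBijective (fun k => ⟨g k, hg k, hg1 k⟩)
    ⟨fun a b h => hinj (congrArg Subtype.val h), fun x => by
      obtain ⟨k, hk⟩ := hsurj x.1 x.2.1 x.2.2
      exact ⟨k, Subtype.ext hk⟩⟩
  have hc : Countable K := Finite.to_countable
  let s : Shrink.{0} K ≃* K := Shrink.mulEquiv
  have hfin : Finite (Shrink.{0} K) := Finite.of_equiv K s.symm.toEquiv
  refine ⟨Shrink.{0} K, inferInstance, hfin, f.comp s.toMonoidHom, e0.symm.trans s.symm.toEquiv,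
    fun k => hf _, fun x => ?_⟩
  obtain ⟨a, ha, b, hb, h⟩ := hn (e0.symm x)
  refine ⟨a, ha, b, hb, ?_⟩
  have h1 : g (e0.symm x) = x.1 := congrArg Subtype.val (e0.apply_symm_apply x)
  have h2 : (f.comp s.toMonoidHom) ((e0.symm.trans s.symm.toEquiv) x) = f (e0.symm x) := by
    change f (s (s.symm (e0.symm x))) = f (e0.symm x)
    rw [s.apply_symm_apply]
  rw [h2, ← h1]
  exact h

variable {F : Type*} [Field F] {V : Type*} [AddCommGroup V] [Module F V] {H : HForm F V} {n : ℕ}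
  {Fr : Frame H (Fin n)}

/-! ### The torus elements, continued -/

/-- isometries of the ambient group are determined by the images of the frame and of `V0` -/
theorem ext_of {G0 : Subgroup (V ≃ₗ[F] V)} (hA : Amb Fr G0) {g k : V ≃ₗ[F] V} (hb : ∀ x, g (Fr.b x) = k (Fr.b x))
    (h0 : ∀ w ∈ Fr.V0, g w = k w) : g = k := by
  have h1 : g⁻¹ * k = 1 := by
    refine Cfsg.Agent.Nodes.WittRGD.Amb.eq_one_of_fix hA (fun x => ?_) fun w hw => ?_
    · rw [mul_apply', ← hb, ← mul_apply', inv_mul_cancel]; rfl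
    · rw [mul_apply', ← h0 w hw, ← mul_apply', inv_mul_cancel]; rfl
  exact inv_mul_eq_one.1 h1

theorem hX_mul {G0 : Subgroup (V ≃ₗ[F] V)} (hA : Amb Fr G0) {a b : Fin n × Bool} (hab : a.1 ≠ b.1) {s t : F}
    (hs : s ≠ 0) (ht : t ≠ 0) : hX Fr a b (s * t) = hX Fr a b s * hX Fr a b t := by
  have hst := mul_ne_zero hs ht
  refine ext_of hA (fun z => ?_) fun w hw => ?_
  · rw [mul_apply']
    by_cases h1 : z.1 = a.1
    · rcases eq_or_ng h1 with rfl | rfl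
      · rw [hX_a Fr hab hst, hX_a Fr hab ht, map_smul, hX_a Fr hab hs, smul_smul, mul_comm]
      · have e1 : hX Fr a b (s * t) (Fr.b (ng a)) = _ := hX_na Fr hab hst
        have e3 : hX Fr a b t (Fr.b (ng a)) = _ := hX_na Fr hab ht
        rw [e1, e3, map_smul, hX_na Fr hab hs, smul_smul, map_mul, mul_inv_rev]
    by_cases h2 : z.1 = b.1
    · rcases eq_or_ng h2 with rfl | rfl
      · rw [hX_b Fr hab hst, hX_b Fr hab ht, map_smul, hX_b Fr hab hs, smul_smul, map_mul, mul_comm]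
      · have e1 : hX Fr a b (s * t) (Fr.b (ng b)) = _ := hX_nb Fr hab hst
        have e3 : hX Fr a b t (Fr.b (ng b)) = _ := hX_nb Fr hab ht
        rw [e1, e3, map_smul, hX_nb Fr hab hs, smul_smul, mul_inv_rev]
    · rw [hX_ne Fr hab h1 h2, hX_ne Fr hab h1 h2, hX_ne Fr hab h1 h2]
  · rw [mul_apply', hX_V0 Fr hab hw, hX_V0 Fr hab hw, hX_V0 Fr hab hw]

theorem nX_eq_hX {G0 : Subgroup (V ≃ₗ[F] V)} (hA : Amb Fr G0) {a b : Fin n × Bool} (hab : a.1 ≠ b.1) {s : F}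
    (hs : s ≠ 0) : nX Fr a b s = hX Fr a b s * nX Fr a b 1 := by
  have hσ : H.σ s ≠ 0 := by simpa using hs
  have hη1 := Fr.η_ne a
  have hη2 := Fr.η_ne b
  have hε := H.ε_ne
  refine ext_of hA (fun z => ?_) fun w hw => ?_
  · rw [mul_apply']
    by_cases h1 : z.1 = a.1
    · rcases eq_or_ng h1 with rfl | rfl
      · rw [nX_apply_self Fr hab hs, nX_apply_self Fr hab one_ne_zero, inv_one, one_smul, map_neg,
          hX_nb Fr hab hs]
      · have e1 : nX Fr a b s (Fr.b (ng a)) = _ := nX_apply_neg' Fr hab hs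
        have e2 : nX Fr a b 1 (Fr.b (ng a)) = _ := nX_apply_neg' Fr hab one_ne_zero
        rw [e1, e2, map_neg, map_smul, hX_b Fr hab hs, smul_smul, map_one, mul_one]
    by_cases h2 : z.1 = b.1
    · rcases eq_or_ng h2 with rfl | rfl
      · rw [nX_apply_self' Fr hab hs, nX_apply_self' Fr hab one_ne_zero, map_smul, hX_na Fr hab hs, smul_smul,
          map_one, mul_one, mul_inv_rev, mul_comm]
      · have e1 : nX Fr a b s (Fr.b (ng b)) = _ := nX_apply_neg Fr hab hs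
        have e2 : nX Fr a b 1 (Fr.b (ng b)) = _ := nX_apply_neg Fr hab one_ne_zero
        rw [e1, e2, one_smul, hX_a Fr hab hs]
    · rw [nX_apply_of_ne Fr hab h1 h2, nX_apply_of_ne Fr hab h1 h2, hX_ne Fr hab h1 h2]
  · rw [mul_apply', nX_apply_V0 Fr hab hw, nX_apply_V0 Fr hab hw, hX_V0 Fr hab hw]

/-- the rank one identity of the type I nodes -/
theorem nX_conj_eq {G0 : Subgroup (V ≃ₗ[F] V)} (hA : Amb Fr G0) {a b : Fin n × Bool} (hab : a.1 ≠ b.1) {s : F}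
    (hs : s ≠ 0) : nX Fr a b 1 * Fr.X a b s⁻¹ * (nX Fr a b 1)⁻¹ =
      Fr.X a b (-s) * hX Fr a b s * nX Fr a b 1 * Fr.X a b (-s) := by
  have e : Fr.X a b (-s) = (Fr.X a b s)⁻¹ := Fr.X_neg a b s
  rw [nX_conj_X Fr hab one_ne_zero, mul_assoc (Fr.X a b (-s)), ← nX_eq_hX hA hab hs, nX, e, inv_one, one_pow, one_mul]
  group

/-- the homomorphism `s ↦ h(s)` -/
noncomputable def hXu {G0 : Subgroup (V ≃ₗ[F] V)} (hA : Amb Fr G0) {a b : Fin n × Bool} (hab : a.1 ≠ b.1) :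
    Fˣ →* (V ≃ₗ[F] V) :=
  MonoidHom.mk' (fun s => hX Fr a b (s : F)) fun s t => by
    rw [Units.val_mul]
    exact hX_mul hA hab s.ne_zero t.ne_zero

theorem nx_ne {i : Fin n} (hi : (i : ℕ) + 1 < n) : ((i, true) : Fin n × Bool).1 ≠ (nx i).1 := by
  unfold nx; rw [dif_pos hi]; simp [Fin.ext_iff]

variable {K0 : Type*} [Group K0] (M : Model Fr K0)

/-- the type I nodes -/
theorem slNode_X [Finite F] (hA : Amb Fr M.I) {p0 : Fr.Adm} {i : Fin n} (hi : (i : ℕ) + 1 < n)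
    (hmem : ∀ i, WittRGD.nn Fr p0 i ∈ M.I) :
    SLNode (WittModel.T M) (fun i => M.φ ⟨WittRGD.nn Fr p0 i, hmem i⟩) (WittModel.X M) i := by
  have hne := nx_ne hi
  have hX1 : rg Fr (sr i) = XG Fr (i, true) (nx i) := by rw [rg_sr, PG_ne Fr hne]
  have hmX : ∀ s, M.φ ⟨Fr.X (i, true) (nx i) s, M.hX _ _ _⟩ ∈ WittModel.X M (sr i) := by
    intro s
    refine WittModel.mem_X_of M _ ?_
    rw [hX1]
    exact ⟨s, rfl⟩
  have hX0 : M.φ ⟨Fr.X (i, true) (nx i) 0, M.hX _ _ _⟩ = 1 := by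
    have : (⟨Fr.X (i, true) (nx i) 0, M.hX _ _ _⟩ : M.I) = 1 := Subtype.ext (Fr.X_zero _ _)
    rw [this, map_one]
  let f : Fˣ →* K0 := MonoidHom.mk' (fun s => M.φ ⟨hX Fr (i, true) (nx i) (s : F), hX_mem M _ _ _⟩) fun s t => by
    rw [← map_mul]
    congr 1
    apply Subtype.ext
    exact (hXu hA hne).map_mul s t
  refine slNode_of (K := Fˣ) f (fun k => ?_) (fun s => M.φ ⟨Fr.X (i, true) (nx i) ((s : F)⁻¹), M.hX _ _ _⟩)
    (fun k => hmX _) (fun k h => ?_) (fun s t h => ?_) (fun x hx hx1 => ?_) (fun s => ?_)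
  · exact Subgroup.mem_map_of_mem _ (Subgroup.mem_subgroupOf.2 ⟨hX_mem M _ _ _, mono_hX Fr hne k.ne_zero⟩)
  · rw [← hX0] at h
    have h1 := model_X_inj M hne h
    exact inv_ne_zero k.ne_zero h1
  · have h1 := model_X_inj M hne h
    exact Units.ext (inv_injective h1)
  · obtain ⟨g, hg, hgx, rfl⟩ := (WittModel.mem_X M).1 hx
    rw [hX1] at hgx
    obtain ⟨s, rfl⟩ := hgx
    have hs : s ≠ 0 := by
      rintro rfl
      exact hx1 hX0
    refine ⟨Units.mk0 s⁻¹ (inv_ne_zero hs), ?_⟩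
    simp only [Units.val_mk0, inv_inv]
  · refine ⟨_, hmX (-(s : F)), _, hmX (-(s : F)), ?_⟩
    have hnn : WittRGD.nn Fr p0 i = nX Fr (i, true) (nx i) 1 := by
      unfold WittRGD.nn; rw [if_pos hi]
    change M.φ _ * M.φ _ * (M.φ _)⁻¹ = M.φ _ * M.φ _ * M.φ _ * M.φ _
    rw [← map_inv, ← map_mul, ← map_mul, ← map_mul, ← map_mul, ← map_mul]
    congr 1
    apply Subtype.ext
    change WittRGD.nn Fr p0 i * _ * (WittRGD.nn Fr p0 i)⁻¹ = _ * _ * WittRGD.nn Fr p0 i * _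
    rw [hnn]
    exact nX_conj_eq hA hne s.ne_zero

/-! ### The last node -/

/-- the middle factor of `nZ a p` -/
def al (Fr : Frame H (Fin n)) (a : Fin n × Bool) (p : Fr.Adm) : Fr.Adm := Frame.Adm.smul (-(Fr.η a * (H.σ p.c)⁻¹)) p

/-- the inverse of `al` -/
def be (Fr : Frame H (Fin n)) (a : Fin n × Bool) (r : Fr.Adm) : Fr.Adm := Frame.Adm.smul (-((Fr.η a)⁻¹ * r.c⁻¹)) r

theorem be_al (a : Fin n × Bool) {p : Fr.Adm} (hp : p.c ≠ 0) : be Fr a (al Fr a p) = p := by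
  have hσ : H.σ p.c ≠ 0 := by simpa using hp
  have hη := Fr.η_ne a
  rw [be, al, Frame.Adm.smul_smul]
  have h1 : -((Fr.η a)⁻¹ * (Frame.Adm.smul (-(Fr.η a * (H.σ p.c)⁻¹)) p).c⁻¹) * -(Fr.η a * (H.σ p.c)⁻¹) = 1 := by
    rw [Frame.Adm.smul_c]
    simp only [map_neg, map_mul, map_inv₀, H.σσ, Fr.σ_η]
    field_simp
  rw [h1, Frame.Adm.one_smul]

theorem al_be (a : Fin n × Bool) {r : Fr.Adm} (hr : r.c ≠ 0) : al Fr a (be Fr a r) = r := by
  have hσ : H.σ r.c ≠ 0 := by simpa using hr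
  have hη := Fr.η_ne a
  rw [be, al, Frame.Adm.smul_smul]
  have h1 : -(Fr.η a * (H.σ (Frame.Adm.smul (-((Fr.η a)⁻¹ * r.c⁻¹)) r).c)⁻¹) * -((Fr.η a)⁻¹ * r.c⁻¹) = 1 := by
    rw [Frame.Adm.smul_c]
    simp only [map_neg, map_mul, map_inv₀, H.σσ, Fr.σ_η]
    field_simp
  rw [h1, Frame.Adm.one_smul]

theorem al_c (a : Fin n × Bool) {p : Fr.Adm} (hp : p.c ≠ 0) : (al Fr a p).c ≠ 0 := by
  have hσ : H.σ p.c ≠ 0 := by simpa using hp
  have hη := Fr.η_ne a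
  rw [al, Frame.Adm.smul_c]
  simp only [map_neg, map_mul, map_inv₀, H.σσ, Fr.σ_η]
  have : (Fr.η a)⁻¹ ≠ 0 := inv_ne_zero hη
  simp [hη, hσ, hp]

theorem be_c (a : Fin n × Bool) {p : Fr.Adm} (hp : p.c ≠ 0) : (be Fr a p).c ≠ 0 := by
  have hσ : H.σ p.c ≠ 0 := by simpa using hp
  have hη := Fr.η_ne a
  rw [be, Frame.Adm.smul_c]
  simp only [map_neg, map_mul, map_inv₀, H.σσ, Fr.σ_η]
  simp [hη, hσ, hp]

/-- the last node, from a group structure on the nontrivial admissible pairs -/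
theorem slNode_Z {p : ℕ} {W : Type*} [Group W] (cs : CoxeterSystem (CoxeterMatrix.B n) W) (hA : Amb Fr M.I)
    {p0 : Fr.Adm} (hp0 : p0.c ≠ 0) {i : Fin n} (hi : ¬ (i : ℕ) + 1 < n)
    (hmem : ∀ i, WittRGD.nn Fr p0 i ∈ M.I)
    (R : RGD cs (isCartan n) p (WittModel.T M) (fun i => M.φ ⟨WittRGD.nn Fr p0 i, hmem i⟩) (WittModel.X M))
    {K : Type*} [Group K] [Finite K] (P : K → Fr.Adm) (hinj : Function.Injective P) (hP : ∀ k, (P k).c ≠ 0)
    (hsurj : ∀ p : Fr.Adm, p.c ≠ 0 → ∃ k, P k = p)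
    (hmul : ∀ k k', nZ Fr (i, true) (P (k * k')) * (nZ Fr (i, true) p0)⁻¹ =
      (nZ Fr (i, true) (P k) * (nZ Fr (i, true) p0)⁻¹) * (nZ Fr (i, true) (P k') * (nZ Fr (i, true) p0)⁻¹)) :
    SLNode (WittModel.T M) (fun i => M.φ ⟨WittRGD.nn Fr p0 i, hmem i⟩) (WittModel.X M) i := by
  have hnx : nx i = (i, true) := by unfold nx; rw [dif_neg hi]
  have hnn : WittRGD.nn Fr p0 i = nZ Fr (i, true) p0 := by unfold WittRGD.nn; rw [if_neg hi]
  have hX1 : rg Fr (sr i) = ZG Fr (i, true) := by rw [rg_sr, hnx, PG_self]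
  have hX2 : rg Fr (-sr i) = ZG Fr (ng (i, true)) := by rw [rg_neg_sr, hnx, PG_self]
  set N : K0 := M.φ ⟨WittRGD.nn Fr p0 i, hmem i⟩ with hN
  have hmZ : ∀ q, M.φ ⟨Fr.Z (i, true) q, M.hZ _ _⟩ ∈ WittModel.X M (sr i) := by
    intro q
    refine WittModel.mem_X_of M _ ?_
    rw [hX1]
    exact ⟨q, rfl⟩
  have hmZ' : ∀ q, M.φ ⟨Fr.Z (ng (i, true)) q, M.hZ _ _⟩ ∈ WittModel.X M (-sr i) := by
    intro q
    refine WittModel.mem_X_of M _ ?_
    rw [hX2]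
    exact ⟨q, rfl⟩
  have hZ1 : ∀ a : Fin n × Bool, M.φ ⟨Fr.Z a 1, M.hZ _ _⟩ = 1 := by
    intro a
    have : (⟨Fr.Z a 1, M.hZ _ _⟩ : M.I) = 1 := Subtype.ext (Fr.Z_one _)
    rw [this, map_one]
  have hc0 : ∀ q : Fr.Adm, q.c = 0 → q = 1 := by
    intro q hq
    have h1 := q.ok
    rw [hq] at h1
    exact Frame.Adm.ext (hA.ok_aniso _ h1) hq
  have hrep : rep cs (isCartan n) (cs.simple i) (sr i) = -sr i := by
    rw [rep_simple, refl_apply, pairing_sr', (isCartan n).diag]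
    funext k
    by_cases hk : k = i
    · subst hk
      simp [sr]
    · simp [sr, hk]
  have hconj : ∀ x, x ∈ WittModel.X M (-sr i) ↔ N⁻¹ * x * N ∈ WittModel.X M (sr i) := by
    intro x
    have h1 := R.conj i (sr i) (isRoot_sr cs _ i)
    rw [hrep] at h1
    rw [← h1, mem_cj]
  have hZmem : ∀ a q, nZ Fr a q ∈ M.I := fun a q => mul_mem (mul_mem (M.hZ _ _) (M.hZ _ _)) (M.hZ _ _)
  have hDmem : ∀ q, nZ Fr (i, true) q * (nZ Fr (i, true) p0)⁻¹ ∈ M.I :=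
    fun q => mul_mem (hZmem _ _) (inv_mem (hZmem _ _))
  let f : K →* K0 := MonoidHom.mk' (fun k => M.φ ⟨nZ Fr (i, true) (P k) * (nZ Fr (i, true) p0)⁻¹, hDmem _⟩)
    fun s t => by
      rw [← map_mul]
      congr 1
      apply Subtype.ext
      exact hmul s t
  have hsg : ∀ x, sg i (sg i x) = x := sg_sg i
  refine slNode_of (K := K) f (fun k => ?_)
    (fun k => N⁻¹ * M.φ ⟨Fr.Z (ng (i, true)) (al Fr (i, true) (P k)), M.hZ _ _⟩ * N)
    (fun k => (hconj _).1 (hmZ' _)) (fun k h => ?_) (fun s t h => ?_) (fun x hx hx1 => ?_) (fun k => ?_)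
  · refine Subgroup.mem_map_of_mem _ (Subgroup.mem_subgroupOf.2 ⟨hDmem _, ?_⟩)
    exact ((mono_nZ hi (hP k)).mul ((mono_nZ hi hp0).inv (sg_sg i))).congr fun x => sg_sg i x
  · have h1 : M.φ ⟨Fr.Z (ng (i, true)) (al Fr (i, true) (P k)), M.hZ _ _⟩ = 1 := by
      have h2 : N⁻¹ * M.φ ⟨Fr.Z (ng (i, true)) (al Fr (i, true) (P k)), M.hZ _ _⟩ * N = N⁻¹ * 1 * N := by
        rw [h]; group
      exact mul_left_cancel (mul_right_cancel h2)
    rw [← hZ1 (ng (i, true))] at h1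
    have h2 := congrArg Frame.Adm.c (model_Z_inj M h1)
    exact al_c _ (hP k) h2
  · have h1 : M.φ ⟨Fr.Z (ng (i, true)) (al Fr (i, true) (P s)), M.hZ _ _⟩ =
        M.φ ⟨Fr.Z (ng (i, true)) (al Fr (i, true) (P t)), M.hZ _ _⟩ :=
      mul_left_cancel (mul_right_cancel h)
    have h2 := congrArg (be Fr (i, true)) (model_Z_inj M h1)
    rw [be_al _ (hP s), be_al _ (hP t)] at h2
    exact hinj h2
  · have h1 : N * x * N⁻¹ ∈ WittModel.X M (-sr i) := by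
      rw [hconj]
      have : N⁻¹ * (N * x * N⁻¹) * N = x := by group
      rw [this]
      exact hx
    obtain ⟨g, hg, hgx, hgx'⟩ := (WittModel.mem_X M).1 h1
    rw [hX2] at hgx
    obtain ⟨r, rfl⟩ := hgx
    have hr : r.c ≠ 0 := by
      intro h0
      have h5 := hc0 r h0
      subst h5
      have h6 : N * x * N⁻¹ = 1 := hgx'.trans (hZ1 _)
      apply hx1
      have : x = N⁻¹ * (N * x * N⁻¹) * N := by group
      rw [this, h6]
      group
    obtain ⟨k, hk⟩ := hsurj (be Fr (i, true) r) (be_c _ hr)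
    refine ⟨k, ?_⟩
    change N⁻¹ * M.φ ⟨Fr.Z (ng (i, true)) (al Fr (i, true) (P k)), M.hZ _ _⟩ * N = x
    have h2 : al Fr (i, true) (P k) = r := by rw [hk, al_be _ hr]
    have h3 : (⟨Fr.Z (ng (i, true)) (al Fr (i, true) (P k)), M.hZ _ _⟩ : M.I) = ⟨Fr.Z (ng (i, true)) r, hg⟩ :=
      Subtype.ext (by rw [h2])
    rw [h3, ← hgx']
    group
  · refine ⟨_, inv_mem (hmZ (P k)), _,
      inv_mem (hmZ (Frame.Adm.smul (H.ε * (P k).c * (H.σ (P k).c)⁻¹) (P k))), ?_⟩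
    change N * (N⁻¹ * _ * N) * N⁻¹ = _ * M.φ _ * N * _
    have e1 : N * (N⁻¹ * M.φ ⟨Fr.Z (ng (i, true)) (al Fr (i, true) (P k)), M.hZ _ _⟩ * N) * N⁻¹ =
        M.φ ⟨Fr.Z (ng (i, true)) (al Fr (i, true) (P k)), M.hZ _ _⟩ := by group
    rw [e1, hN, ← map_inv, ← map_inv, ← map_mul, ← map_mul, ← map_mul]
    congr 1
    apply Subtype.ext
    change Fr.Z (ng (i, true)) (al Fr (i, true) (P k)) = (Fr.Z (i, true) (P k))⁻¹ *
      (nZ Fr (i, true) (P k) * (nZ Fr (i, true) p0)⁻¹) * WittRGD.nn Fr p0 i *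
        (Fr.Z (i, true) (Frame.Adm.smul (H.ε * (P k).c * (H.σ (P k).c)⁻¹) (P k)))⁻¹
    have e2 : nZ Fr (i, true) (P k) = Fr.Z (i, true) (P k) * Fr.Z (ng (i, true)) (al Fr (i, true) (P k)) *
        Fr.Z (i, true) (Frame.Adm.smul (H.ε * (P k).c * (H.σ (P k).c)⁻¹) (P k)) := rfl
    rw [hnn, e2]
    group

end Cfsg.Agent.H69.OQ
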