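import Cfsg.Agent.H69.OQ.InRows
import Cfsg.Agent.H69.OQ.SUThree
import Cfsg.Agent.H684.OQ.DefsB

/-!
# S4884, own odd characteristic: `HasInB` for the unitary groups of odd degree, from the last node (helper69)
-/

set_option autoImplicit false
set_option linter.unusedSectionVars false

namespace Cfsg.Agent.H69.OQ

open Cfsg Cfsg.Agent.LieClassical.HermBasic Cfsg.Agent.LieClassical.HermGen
  Cfsg.Agent.LieClassical.HermSiegel
open CoxeterSystem Cfsg.Agent.ChevalleyStructure.CoxeterGeom Cfsg.Agent.Tits.Roots Cfsg.Agent.Nodes.TypeC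
open Cfsg.Agent.Nodes.Comb Cfsg.Agent.Nodes.Reps Cfsg.Agent.Nodes.WittRoot Cfsg.Agent.Nodes.BNOf
open Cfsg.Agent.Nodes.WittRGD Cfsg.Agent.Nodes.RGDLib Cfsg.Agent.H684.OQ
open Cfsg.Agent.Nodes Cfsg.Agent.Nodes.WittU Cfsg.Agent.Nodes.WittAll
open Cfsg.Agent.TitsThree Cfsg.Agent.TitsThree.Siegel Cfsg.Agent.TitsThree.SiegelGen
  Cfsg.Agent.TitsThree.WittFrame Cfsg.Agent.TitsThree.WBridge Cfsg.Agent.TitsThree.WittWeyl
  Cfsg.Agent.TitsThree.FrameCN Cfsg.Agent.TitsThree.KSideU Cfsg.Agent.TitsThree.KSideUDesc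

/-- **`PSU_{2m+1}(q)`**, `m ≥ 1`, `q` odd, from the last node -/
theorem inB_psu_odd {F : Type*} [Field F] [Fintype F] {q m : ℕ} (hF : Fintype.card F = q ^ 2) (hq : Odd q)
    (hm : 1 ≤ m) {p : ℕ} [Fact p.Prime] [CharP F p] (W : WFrame (PU hF (2 * m + 1)) m) {d : Fin (2 * m + 1) → F}
    (hd : hermForm (2 * m + 1) F q d d = 1) (hV0 : W.V0 = Submodule.span F {d}) {p0 : (toFrame W).Adm}
    (hp0 : p0.c ≠ 0)
    (hmem : ∀ i, WittRGD.nn (toFrame W) p0 i ∈ (KInstU.model hF (by omega) W).I)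
    (hlast : ∀ i : Fin m, ¬ (i : ℕ) + 1 < m → SUNode (WittModel.T (KInstU.model hF (by omega) W))
      (fun i => (KInstU.model hF (by omega) W).φ ⟨WittRGD.nn (toFrame W) p0 i, hmem i⟩)
      (WittModel.X (KInstU.model hF (by omega) W)) i) :
    HasInB p (CoxeterMatrix.B m) (PSU (2 * m + 1) F q) := by
  have h2 : (2 : F) ≠ 0 := two_ne_of_odd (by rw [hF]; exact hq.pow)
  have hA := amb_U hF W
  have hAT := AmbT.of_amb hA p
  set M := KInstU.model hF (by omega) W with hM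
  have R := rgdC_model M hAT hp0 (CoxeterMatrix.B m).toCoxeterSystem
  have hline : ∃ w0 : Fin (2 * m + 1) → F, ∀ w ∈ (toFrame W).V0, ∃ a : F, w = a • w0 := by
    refine ⟨d, fun w hw => ?_⟩
    have hw' : w ∈ W.V0 := hw
    rw [hV0] at hw'
    obtain ⟨y, rfl⟩ := Submodule.mem_span_singleton.1 hw'
    exact ⟨y, rfl⟩
  refine ⟨TypeC.A m, isCartan m, WittModel.T M, _, WittModel.X M,
    TypeC.finite_W (CoxeterMatrix.B m).toCoxeterSystem, R, ?_, ?_, ?_, ?_, twFaithful_C M _ hA h2 R⟩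
  · exact H905.Md.gg_top (WittModel.G1_eq_top M hm _)
  · rintro _ ⟨s, hs, rfl⟩ _ ⟨t, ht, rfl⟩
    rw [← map_mul, ← map_mul]
    congr 1
    exact Subtype.ext (H716.RGDAb.tor_comm_of hA.V0 (Subgroup.mem_subgroupOf.1 hs) (Subgroup.mem_subgroupOf.1 ht)
      (H716.RGDAb.comm_V0_of_line hAT hline (Subgroup.mem_subgroupOf.1 hs) (Subgroup.mem_subgroupOf.1 ht)))
  · rcases Nat.lt_or_ge 1 m with h1 | h1
    · obtain ⟨t, k, ht, htq⟩ := exists_two_elt hF hq
      exact nofix_tt M _ hA h1 ht htq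
    · obtain rfl : m = 1 := by omega
      exact nofix_psu3 hF hq W hd hV0 _
  · intro i
    by_cases hi : (i : ℕ) + 1 < m
    · exact Or.inl (slNode_X M hA hi _)
    · exact Or.inr (hlast i hi)

end Cfsg.Agent.H69.OQ
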