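import Cfsg.Agent.H69.OQ.InC

/-!
# S4884, own odd characteristic: `HasIn` for the symplectic, the even unitary and the odd orthogonal groups (helper69)

* `dZ` : `nZ a p * (nZ a p0)⁻¹`, `dZ_a`, `dZ_na`, `dZ_ne`, `dZ_V0`; `dZ_mul_of`;
* `hasIn_zero` : anisotropic part zero; `hasIn_line` : orthogonal, anisotropic part a line;
* **`hasIn_psp`**, **`hasIn_psu`** (even degree), **`hasIn_podd`**.
-/

set_option autoImplicit false
set_option linter.unusedSectionVars false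

namespace Cfsg.Agent.H69.OQ

open Cfsg.Agent.ChevalleyStructure.CoxeterGeom Cfsg.Agent.Tits.Roots Cfsg.Agent.Nodes.TypeC
open Cfsg.Agent.Nodes Cfsg.Agent.Nodes.Comb Cfsg.Agent.Nodes.Reps Cfsg.Agent.Nodes.WittRoot Cfsg.Agent.Nodes.BNOf
open Cfsg.Agent.Nodes.WittRGD Cfsg.Agent.Nodes.RGDLib Cfsg.Agent.H684.OQ Cfsg.Agent.Nodes.WittAll
open Cfsg.Agent.TitsThree Cfsg.Agent.TitsThree.Siegel Cfsg.Agent.TitsThree.WittFrame
  Cfsg.Agent.TitsThree.WittWeyl Cfsg.Agent.TitsThree.FrameCN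

section general

variable {F : Type*} [Field F] {V : Type*} [AddCommGroup V] [Module F V] {H : HForm F V} {n : ℕ}
  (Fr : Frame H (Fin n))

/-- the torus elements of the last node -/
def dZ (a : Fin n × Bool) (p0 p : Fr.Adm) : V ≃ₗ[F] V := nZ Fr a p * (nZ Fr a p0)⁻¹

theorem inv_apply_of {g : V ≃ₗ[F] V} {v w : V} {l : F} (hl : l ≠ 0) (h : g v = l • w) : g⁻¹ w = l⁻¹ • v := by
  have h1 : g (l⁻¹ • v) = w := by rw [map_smul, h, smul_smul, inv_mul_cancel₀ hl, one_smul]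
  rw [← h1, ← mul_apply', inv_mul_cancel]
  rfl

variable {Fr} {a : Fin n × Bool} {p0 p : Fr.Adm}

theorem dZ_a (hp0 : p0.c ≠ 0) (hp : p.c ≠ 0) : dZ Fr a p0 p (Fr.b a) = (p.c * p0.c⁻¹) • Fr.b a := by
  have hη := Fr.η_ne a
  rw [dZ, mul_apply', inv_apply_of (mul_ne_zero hη hp0) (nZ_apply_neg Fr a p0 hp0), map_smul,
    nZ_apply_neg Fr a p hp, smul_smul]
  congr 1
  field_simp

theorem dZ_na (hp0 : p0.c ≠ 0) (hp : p.c ≠ 0) :
    dZ Fr a p0 p (Fr.b (neg a)) = (H.σ p0.c * (H.σ p.c)⁻¹) • Fr.b (neg a) := by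
  have hη := Fr.η_ne a
  have hε := H.ε_ne
  have hσ : H.σ p.c ≠ 0 := by simpa using hp
  have hσ0 : H.σ p0.c ≠ 0 := by simpa using hp0
  have hne : H.ε * (Fr.η a)⁻¹ * (H.σ p0.c)⁻¹ ≠ 0 :=
    mul_ne_zero (mul_ne_zero hε (inv_ne_zero hη)) (inv_ne_zero hσ0)
  rw [dZ, mul_apply', inv_apply_of hne (nZ_apply_self Fr a p0 hp0), map_smul, nZ_apply_self Fr a p hp, smul_smul]
  congr 1
  field_simp

theorem dZ_ne {z : Fin n × Bool} (h : z.1 ≠ a.1) : dZ Fr a p0 p (Fr.b z) = Fr.b z := by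
  have h1 : nZ Fr a p0 (Fr.b z) = (1 : F) • Fr.b z := by rw [nZ_apply_of_ne Fr h, one_smul]
  rw [dZ, mul_apply', inv_apply_of one_ne_zero h1, inv_one, one_smul, nZ_apply_of_ne Fr h]

/-- the criterion for `dZ` to be multiplicative -/
theorem dZ_mul_of {G0 : Subgroup (V ≃ₗ[F] V)} (hA : Amb Fr G0) (a : Fin n × Bool) {p0 p p' p'' : Fr.Adm}
    (hp0 : p0.c ≠ 0) (hp : p.c ≠ 0) (hp' : p'.c ≠ 0) (hp'' : p''.c ≠ 0) (hc : p''.c * p0.c = p.c * p'.c)
    (hV : ∀ v ∈ Fr.V0, dZ Fr a p0 p'' v = dZ Fr a p0 p (dZ Fr a p0 p' v)) :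
    dZ Fr a p0 p'' = dZ Fr a p0 p * dZ Fr a p0 p' := by
  have hσ : H.σ p.c ≠ 0 := by simpa using hp
  have hσ' : H.σ p'.c ≠ 0 := by simpa using hp'
  have hσ'' : H.σ p''.c ≠ 0 := by simpa using hp''
  have hσ0 : H.σ p0.c ≠ 0 := by simpa using hp0
  refine ext_of hA (fun z => ?_) fun w hw => hV w hw
  rw [mul_apply']
  by_cases h1 : z.1 = a.1
  · rcases eq_or_ng h1 with rfl | rfl
    · rw [dZ_a hp0 hp'', dZ_a hp0 hp', map_smul, dZ_a hp0 hp, smul_smul]
      congr 1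
      field_simp
      linear_combination hc
    · have e1 : dZ Fr a p0 p'' (Fr.b (ng a)) = _ := dZ_na hp0 hp''
      have e2 : dZ Fr a p0 p' (Fr.b (ng a)) = _ := dZ_na hp0 hp'
      rw [e1, e2, map_smul, dZ_na hp0 hp, smul_smul]
      congr 1
      have hc' := congrArg H.σ hc
      rw [map_mul, map_mul] at hc'
      field_simp
      linear_combination -hc'
  · rw [dZ_ne h1, dZ_ne h1, dZ_ne h1]

variable {K0 : Type*} [Group K0] (M : Model Fr K0)

/-- **anisotropic part zero** -/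
theorem hasIn_zero {p : ℕ} (hA : Amb Fr M.I) [Finite V] [Finite F] [Fact p.Prime] [CharP F p] (h2 : (2 : F) ≠ 0)
    {p0 : Fr.Adm} (hp0 : p0.c ≠ 0) (hn : 0 < n) (hV0 : ∀ w ∈ Fr.V0, w = 0)
    (hok : ∀ c, H.ε * c + H.σ c = 0 → Fr.ok 0 c)
    (hN : NoFix (CoxeterMatrix.B n).toCoxeterSystem (isCartan n) (WittModel.T M) (WittModel.X M)) :
    HasIn p (CoxeterMatrix.B n) K0 := by
  have hw0 : ∀ q : Fr.Adm, q.w = 0 := fun q => hV0 _ (Fr.ok_mem q.ok)
  have hrel : ∀ q : Fr.Adm, H.σ q.c = -(H.ε * q.c) := by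
    intro q
    have h1 := q.herm
    rw [hw0 q, H.zero_left, neg_zero] at h1
    linear_combination h1
  let K : Subgroup Fˣ :=
    { carrier := {u | H.σ (u : F) = u}
      one_mem' := by simp
      mul_mem' := fun {a b} (ha : H.σ (a : F) = a) (hb : H.σ (b : F) = b) => by
        show H.σ ((a * b : Fˣ) : F) = _
        rw [Units.val_mul, map_mul, ha, hb]
      inv_mem' := fun {a} (ha : H.σ (a : F) = a) => by
        show H.σ ((a⁻¹ : Fˣ) : F) = _
        rw [Units.val_inv_eq_inv_val, map_inv₀, ha] }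
  have hokP : ∀ u : K, Fr.ok 0 (((u : Fˣ) : F) * p0.c) := by
    intro u
    have hu : H.σ ((u : Fˣ) : F) = ((u : Fˣ) : F) := u.2
    apply hok
    rw [map_mul, hu, hrel p0]
    ring
  have hfin : Finite K := inferInstance
  let P : K → Fr.Adm := fun u => ⟨0, ((u : Fˣ) : F) * p0.c, hokP u⟩
  have hPc : ∀ u : K, (P u).c = ((u : Fˣ) : F) * p0.c := fun _ => rfl
  have hP0 : ∀ u, (P u).c ≠ 0 := fun u => mul_ne_zero (Units.ne_zero _) hp0
  refine hasIn_C M hA h2 hp0 hn (fun s _ t _ w hw => by rw [hV0 w hw, map_zero, map_zero, map_zero]) hN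
    (K := K) P (fun u u' h => ?_) hP0 (fun q hq => ?_) (fun a k k' => ?_)
  · have h1 := congrArg Frame.Adm.c h
    exact Subtype.ext (Units.ext (mul_right_cancel₀ hp0 h1))
  · have hσ0 : H.σ p0.c ≠ 0 := by simpa using hp0
    have hu : H.σ (q.c * p0.c⁻¹) = q.c * p0.c⁻¹ := by
      have hε := H.ε_ne
      rw [map_mul, map_inv₀, hrel q, hrel p0]
      field_simp
    refine ⟨⟨Units.mk0 (q.c * p0.c⁻¹) (mul_ne_zero hq (inv_ne_zero hp0)), hu⟩, ?_⟩
    apply Frame.Adm.ext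
    · exact (hw0 q).symm
    · exact inv_mul_cancel_right₀ hp0 q.c
  · refine dZ_mul_of hA a hp0 (hP0 k) (hP0 k') (hP0 _) ?_ fun v hv => ?_
    · rw [hPc, hPc, hPc]
      change (((k : Fˣ) * (k' : Fˣ) : Fˣ) : F) * p0.c * p0.c = _
      rw [Units.val_mul]
      ring
    · rw [hV0 v hv, map_zero, map_zero, map_zero]

/-- **orthogonal, the anisotropic part is a line** -/
theorem hasIn_line {p : ℕ} (hA : Amb Fr M.I) [Finite V] [Finite F] [Fact p.Prime] [CharP F p] (h2 : (2 : F) ≠ 0)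
    {p0 : Fr.Adm} (hp0 : p0.c ≠ 0) (hn : 0 < n) (hσ : ∀ x, H.σ x = x) (hε : H.ε = 1)
    (hline : ∀ w ∈ Fr.V0, ∃ x : F, w = x • p0.w)
    (hN : NoFix (CoxeterMatrix.B n).toCoxeterSystem (isCartan n) (WittModel.T M) (WittModel.X M)) :
    HasIn p (CoxeterMatrix.B n) K0 := by
  have hAT := AmbT.of_amb hA p
  have hherm : ∀ q : Fr.Adm, 2 * q.c = -H.h q.w q.w := by
    intro q
    have h1 := q.herm
    rw [hε, hσ, one_mul] at h1
    linear_combination h1
  have hw0 : p0.w ≠ 0 := by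
    intro h
    have h1 := hherm p0
    rw [h, H.zero_left, neg_zero] at h1
    exact hp0 ((mul_eq_zero.1 h1).resolve_left h2)
  let P : Fˣ → Fr.Adm := fun u => Frame.Adm.smul (u : F) p0
  have hPc : ∀ u : Fˣ, (P u).c = (u : F) * (u : F) * p0.c := fun u => by
    change (u : F) * H.σ (u : F) * p0.c = _
    rw [hσ]
  have hP0 : ∀ u, (P u).c ≠ 0 := fun u => by
    rw [hPc]
    exact mul_ne_zero (mul_ne_zero (Units.ne_zero _) (Units.ne_zero _)) hp0
  have hV : ∀ (u : Fˣ) (a : Fin n × Bool), ∀ v ∈ Fr.V0, nZ Fr a (P u) v = nZ Fr a p0 v := by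
    intro u a v hv
    have hu := u.ne_zero
    rw [nZ_apply_V0 Fr a (P u) (hP0 u) hv, nZ_apply_V0 Fr a p0 hp0 hv, hPc]
    congr 1
    change (H.ε⁻¹ * ((u : F) * (u : F) * p0.c)⁻¹ * H.h v ((u : F) • p0.w)) • (u : F) • p0.w = _
    rw [H.smul_right, hσ, smul_smul]
    congr 1
    field_simp
  have hD : ∀ (u : Fˣ) (a : Fin n × Bool), ∀ v ∈ Fr.V0, dZ Fr a p0 (P u) v = v := by
    intro u a v hv
    -- `v = nZ a p0 v'` with `v' ∈ V0`
    obtain ⟨x, hx⟩ := hline v hv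
    have h3 : nZ Fr a p0 p0.w = -p0.w := by
      rw [nZ_apply_V0 Fr a p0 hp0 (Fr.ok_mem p0.ok), hε]
      have h4 : H.h p0.w p0.w = -(2 * p0.c) := by rw [hherm]; ring
      rw [h4]
      have h5 : (1 : F)⁻¹ * p0.c⁻¹ * -(2 * p0.c) = -2 := by field_simp
      rw [h5]
      module
    have h4 : (nZ Fr a p0)⁻¹ v = -v := by
      have h5 : nZ Fr a p0 (-v) = v := by rw [hx, map_neg, map_smul, h3]; simp
      nth_rewrite 1 [← h5]
      rw [← mul_apply', inv_mul_cancel]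
      rfl
    rw [dZ, mul_apply', h4, hV u a _ (Fr.V0.neg_mem hv), hx, map_neg, map_smul, h3]
    simp
  refine hasIn_C M hA h2 hp0 hn (fun s hs t ht => H716.RGDAb.comm_V0_of_line hAT ⟨p0.w, hline⟩ hs ht) hN
    (K := Fˣ) P (fun u u' h => ?_) hP0 (fun q hq => ?_) (fun a k k' => ?_)
  · have h1 := congrArg Frame.Adm.w h
    exact Units.ext (smul_left_injective F hw0 h1)
  · obtain ⟨x, hx⟩ := hline q.w (Fr.ok_mem q.ok)
    have hqc : q.c = x * x * p0.c := by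
      have h1 := hherm q
      rw [hx, H.smul_left, H.smul_right, hσ] at h1
      have h3 := hherm p0
      apply mul_left_cancel₀ h2
      rw [h1]
      linear_combination -x * x * h3
    have hx0 : x ≠ 0 := by
      rintro rfl
      apply hq
      rw [hqc]
      ring
    refine ⟨Units.mk0 x hx0, ?_⟩
    apply Frame.Adm.ext
    · exact hx.symm
    · change x * H.σ x * p0.c = q.c
      rw [hσ, hqc]
  · refine dZ_mul_of hA a hp0 (hP0 k) (hP0 k') (hP0 _) ?_ fun v hv => ?_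
    · rw [hPc, hPc, hPc, Units.val_mul]
      ring
    · rw [hD _ a v hv, hD _ a v hv, hD _ a v hv]

end general

section rows

open Cfsg
open Cfsg.Agent.Nodes.WittU Cfsg.Agent.Nodes.WittInst Cfsg.Agent.TitsThree.SiegelGen Cfsg.Agent.TitsThree.WBridge

theorem two_ne_of_odd {F : Type*} [Field F] [Fintype F] (h : Odd (Fintype.card F)) : (2 : F) ≠ 0 := by
  intro h0
  have h3 : ringChar F = 2 := by
    have h5 : ringChar F ∣ 2 := (ringChar.spec F 2).1 (by exact_mod_cast h0)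
    rcases (Nat.dvd_prime Nat.prime_two).1 h5 with h6 | h6
    · exact absurd h6 (CharP.ringChar_ne_one)
    · exact h6
  have h5 := FiniteField.even_card_of_char_two h3
  obtain ⟨k, hk⟩ := h
  omega

/-- **`PSp_{2m}(F)`**, `m ≥ 2`, `|F| ≡ 1 mod 4` -/
theorem hasIn_psp {F : Type*} [Field F] [Fintype F] {m : ℕ} (hm : 2 ≤ m) (h4 : Fintype.card F % 4 = 1) {p : ℕ}
    [Fact p.Prime] [CharP F p] : HasIn p (CoxeterMatrix.B m) (PSp m F) := by
  have h2 : (2 : F) ≠ 0 := two_ne_of_odd (by rw [Nat.odd_iff]; omega)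
  obtain ⟨i, hi⟩ := FiniteField.isSquare_neg_one_iff.2 (show Fintype.card F % 4 ≠ 3 by omega)
  have h11 : (-1 : F) ≠ 1 := by
    intro h
    apply h2
    have : (1 : F) + 1 = 0 := by nth_rewrite 1 [← h]; ring
    rw [← this]; norm_num
  refine hasIn_zero (KInstSp.model m F) amb_Sp h2 (p0 := SpIdent.adm 1) one_ne_zero (by omega) ?_ ?_ ?_
  · intro w hw
    exact (Submodule.mem_bot F).1 hw
  · intro c _
    exact (SpIdent.adm c).ok
  · refine nofix_tt (KInstSp.model m F) _ amb_Sp hm (t := i) (k := 2) ?_ ?_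
    · have : i ^ 2 ^ 2 = (i * i) * (i * i) := by ring
      rw [this, ← hi]
      ring
    · change i * i ≠ 1
      rw [← hi]
      exact h11

/-- **`PSU_{2m}(q)`**, `m ≥ 2`, `q` odd -/
theorem hasIn_psu {F : Type*} [Field F] [Fintype F] {q m : ℕ} (hF : Fintype.card F = q ^ 2) (hq : Odd q) (hm : 2 ≤ m)
    {p : ℕ} [Fact p.Prime] [CharP F p] : HasIn p (CoxeterMatrix.B m) (PSU (2 * m) F q) := by
  have h2 : (2 : F) ≠ 0 := two_ne_of_odd (by rw [hF]; exact hq.pow)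
  obtain ⟨W, -⟩ := exists_wframe hF (N := 2 * m) (m := m) (Or.inl rfl)
  obtain ⟨p0, hp0, -⟩ := exists_adm hF W
  have hdim := H716.RGDAb.finrank_V0 (Fr := toFrame W)
  rw [Module.finrank_fintype_fun_eq_card, Fintype.card_fin] at hdim
  have hV0 : (toFrame W).V0 = ⊥ := Submodule.finrank_eq_zero.1 (by omega)
  have hV0' : ∀ w ∈ (toFrame W).V0, w = 0 := fun w hw => by
    rw [hV0] at hw
    exact (Submodule.mem_bot F).1 hw
  refine hasIn_zero (KInstU.model hF (by omega) W) (amb_U hF W) h2 hp0 (by omega) hV0' ?_ ?_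
  · intro c hc
    refine ⟨(toFrame W).V0.zero_mem, ?_⟩
    change c + c ^ q = -hermForm (2 * m) F q 0 0
    have h1 : c + c ^ q = 0 := by
      have h3 : (1 : F) * c + c ^ q = 0 := hc
      rw [one_mul] at h3
      exact h3
    rw [h1]
    have h3 : (TitsThree.KSideU.HU hF (2 * m)).h 0 0 = 0 := (TitsThree.KSideU.HU hF (2 * m)).zero_left 0
    have h4 : hermForm (2 * m) F q 0 0 = 0 := h3
    rw [h4, neg_zero]
  · obtain ⟨t, k, ht, htq⟩ := exists_two_elt hF hq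
    exact nofix_tt (KInstU.model hF (by omega) W) _ (amb_U hF W) hm ht htq

section Orthogonal

open QuadraticMap
open Cfsg.Agent.LieClassical Cfsg.Agent.LieClassical.OrthCore Cfsg.Agent.LieClassical.OrthTrans
open Cfsg.Agent.LieClassical.OrthSimple Cfsg.Agent.LieClassical.OrthFinite
open Cfsg.Agent.LieClassical.OrthForms
open Cfsg.Agent.TitsThree.KSideO Cfsg.Agent.TitsThree.StdData

variable {F : Type*} [Field F] {m : ℕ}

/-- **`PΩ_{2m+1}(F)`**, `m ≥ 3` -/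
theorem hasIn_podd [Finite F] (h2 : (2 : F) ≠ 0) (hm : 3 ≤ m) {p : ℕ} [Fact p.Prime] [CharP F p] :
    HasIn p (CoxeterMatrix.B m) (Cfsg.POmega F (Cfsg.quadFormOdd m F)) := by
  rw [← coe_oddForm]
  have hG : Cfsg.Agent.LieClassical.OrthTrans.Good (oddForm m F) := by
    apply good_of_finite (nondeg_oddForm m F h2)
    rw [Module.finrank_fintype_fun_eq_card, Fintype.card_sum, Fintype.card_sum, Fintype.card_fin,
      Fintype.card_unit]
    omega
  have hp : ((embOdd m F).ngt ⟨1, -1 ^ 2, rfl⟩).c ≠ 0 := by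
    change (1 : F)⁻¹ * (-1 ^ 2) ≠ 0
    simp
  have hA := amb_O_of_two (wodd m F) h2
  have hdim := H716.RGDAb.finrank_V0 (Fr := toFrame (wodd m F))
  rw [Module.finrank_fintype_fun_eq_card, Fintype.card_sum, Fintype.card_sum, Fintype.card_fin,
      Fintype.card_unit] at hdim
  have h1 : Module.finrank F ↥(toFrame (wodd m F)).V0 ≤ 1 := by omega
  obtain ⟨v, hv⟩ := finrank_le_one_iff.1 h1
  refine hasIn_line (model (wodd m F) hG ⟨_, hp⟩) hA h2 hp (by omega) (fun _ => rfl) rfl ?_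
    (nofix_orth _ _ hA hm h2 (fun _ => rfl) rfl)
  set p0 := (embOdd m F).ngt ⟨1, -1 ^ 2, rfl⟩ with hp0
  have hw0 : p0.w ≠ 0 := by
    intro h
    have h3 := p0.herm
    rw [h, HForm.zero_left, neg_zero] at h3
    have h4 : (2 : F) * p0.c = 0 := by
      rw [two_mul]
      nth_rewrite 1 [← one_mul p0.c]
      exact h3
    exact hp ((mul_eq_zero.1 h4).resolve_left h2)
  obtain ⟨c, hc⟩ := hv ⟨p0.w, (toFrame (wodd m F)).ok_mem p0.ok⟩
  have hc' : c • v.1 = p0.w := congrArg Subtype.val hc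
  have hc0 : c ≠ 0 := by
    rintro rfl
    rw [zero_smul] at hc'
    exact hw0 hc'.symm
  intro w hw
  obtain ⟨d, hd⟩ := hv ⟨w, hw⟩
  refine ⟨d * c⁻¹, ?_⟩
  rw [← hc', smul_smul, inv_mul_cancel_right₀ hc0]
  exact (congrArg Subtype.val hd).symm

end Orthogonal

end rows

end Cfsg.Agent.H69.OQ
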