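import Cfsg.Agent.H69.OQ.Lieq
import Cfsg.Agent.H684.OQ.MainB

/-!
# S4884: the row `lieq` (own odd characteristic) (helper69)
-/

set_option autoImplicit false

namespace Cfsg.Agent.H69.OQ

open Cfsg Cfsg.Agent.H706.PB Cfsg.Agent.H684.OQ

/-- **the row `lieq` of S4884** -/
theorem lieq {q : ℕ} [hq : Fact q.Prime] (hq2 : q ≠ 2) : H706.PB.RowFor q (fun X _ => IsLieTypeChar q X) :=
  lieq_of hq2 fun m hm _ _ _ hL hI => by
    have : Nonempty (Fin m) := ⟨⟨0, hm⟩⟩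
    exact row_of_hasInB hq2 hL hI

end Cfsg.Agent.H69.OQ
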