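import Cfsg.Agent.H69.OQ.Def
import Cfsg.Agent.Nodes.WittModel
import Cfsg.Agent.Nodes.WittAll

/-!
# S4884, `r` odd: torus elements of a Witt frame, fixed points of `O_2(T)` on the root groups (helper69)

* `hX Fr a b t = nX a b (-t) * nX a b 1 = diag(b_a : t, b_b : σ t, b_{-a} : (σ t)⁻¹, b_{-b} : t⁻¹)`;
* `model_X_inj`, `model_Z_inj` : the root elements of a model are different;
* `nofix_of` : the criterion; **`nofix_tt`** : the criterion with `t` of `2`-power order, `t * σ t ≠ 1` (`n ≥ 2`);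
  **`nofix_orth`** : the orthogonal case, `n ≥ 3`.
-/

set_option autoImplicit false
set_option linter.unusedSectionVars false

namespace Cfsg.Agent.H69.OQ

open Cfsg.Agent.ChevalleyStructure.CoxeterGeom Cfsg.Agent.Tits.Roots Cfsg.Agent.Nodes.TypeC
open Cfsg.Agent.Nodes Cfsg.Agent.Nodes.Comb Cfsg.Agent.Nodes.Reps Cfsg.Agent.Nodes.WittRoot Cfsg.Agent.Nodes.BNOf
open Cfsg.Agent.Nodes.WittRGD Cfsg.Agent.Nodes.RGDLib
open Cfsg.Agent.TitsThree Cfsg.Agent.TitsThree.Siegel Cfsg.Agent.TitsThree.WittFrame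
  Cfsg.Agent.TitsThree.WittWeyl Cfsg.Agent.TitsThree.FrameCN

variable {F : Type*} [Field F] {V : Type*} [AddCommGroup V] [Module F V] {H : HForm F V} {n : ℕ}
  (Fr : Frame H (Fin n))

/-! ### The torus elements -/

/-- the torus element `diag(b_a : t, b_b : σ t, b_{-a} : (σ t)⁻¹, b_{-b} : t⁻¹)` -/
def hX (a b : Fin n × Bool) (t : F) : V ≃ₗ[F] V := nX Fr a b (-t) * nX Fr a b 1

section

variable {a b : Fin n × Bool} (hab : a.1 ≠ b.1) {t : F} (ht : t ≠ 0)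

include hab ht

theorem hX_a : hX Fr a b t (Fr.b a) = t • Fr.b a := by
  rw [hX, mul_apply', nX_apply_self Fr hab one_ne_zero, inv_one, one_smul, map_neg,
    nX_apply_neg Fr hab (neg_ne_zero.2 ht), neg_smul, _root_.neg_neg]

theorem hX_nb : hX Fr a b t (Fr.b (neg b)) = t⁻¹ • Fr.b (neg b) := by
  rw [hX, mul_apply', nX_apply_neg Fr hab one_ne_zero, one_smul, nX_apply_self Fr hab (neg_ne_zero.2 ht),
    inv_neg, neg_smul, _root_.neg_neg]

theorem hX_b : hX Fr a b t (Fr.b b) = H.σ t • Fr.b b := by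
  have h1 := Fr.η_ne a
  have h2 := Fr.η_ne b
  have h3 := H.ε_ne
  rw [hX, mul_apply', nX_apply_self' Fr hab one_ne_zero, map_smul, nX_apply_neg' Fr hab (neg_ne_zero.2 ht),
    map_one, map_neg, mul_one, smul_neg, smul_smul, ← neg_smul]
  congr 1
  field_simp

theorem hX_na : hX Fr a b t (Fr.b (neg a)) = (H.σ t)⁻¹ • Fr.b (neg a) := by
  have h1 := Fr.η_ne a
  have h2 := Fr.η_ne b
  have h3 := H.ε_ne
  have h4 : H.σ t ≠ 0 := by simpa using ht
  rw [hX, mul_apply', nX_apply_neg' Fr hab one_ne_zero, map_neg, map_smul,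
    nX_apply_self' Fr hab (neg_ne_zero.2 ht), map_one, map_neg, mul_one, smul_smul, ← neg_smul]
  congr 1
  field_simp

omit ht in
theorem hX_ne {z : Fin n × Bool} (h1 : z.1 ≠ a.1) (h2 : z.1 ≠ b.1) (t : F) : hX Fr a b t (Fr.b z) = Fr.b z := by
  rw [hX, mul_apply', nX_apply_of_ne Fr hab h1 h2, nX_apply_of_ne Fr hab h1 h2]

omit ht in
theorem hX_V0 {v : V} (hv : v ∈ Fr.V0) (t : F) : hX Fr a b t v = v := by
  rw [hX, mul_apply', nX_apply_V0 Fr hab hv, nX_apply_V0 Fr hab hv]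

theorem mono_hX : Mono Fr (hX Fr a b t) id := by
  intro z
  have h4 : H.σ t ≠ 0 := by simpa using ht
  by_cases h1 : z.1 = a.1
  · rcases eq_or_ng h1 with rfl | rfl
    · exact ⟨t, ht, hX_a Fr hab ht⟩
    · exact ⟨(H.σ t)⁻¹, inv_ne_zero h4, hX_na Fr hab ht⟩
  by_cases h2 : z.1 = b.1
  · rcases eq_or_ng h2 with rfl | rfl
    · exact ⟨H.σ t, h4, hX_b Fr hab ht⟩
    · exact ⟨t⁻¹, inv_ne_zero ht, hX_nb Fr hab ht⟩
  · exact ⟨1, one_ne_zero, by rw [hX_ne Fr hab h1 h2, one_smul]; rfl⟩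

theorem hX_pow {G0 : Subgroup (V ≃ₗ[F] V)} (hA : Amb Fr G0) {m : ℕ} (hm : t ^ m = 1) : hX Fr a b t ^ m = 1 := by
  have key : ∀ (z : Fin n × Bool) (l : F), hX Fr a b t (Fr.b z) = l • Fr.b z →
      ∀ k : ℕ, (hX Fr a b t ^ k) (Fr.b z) = l ^ k • Fr.b z := by
    intro z l hl k
    induction k with
    | zero => rw [pow_zero, pow_zero, one_smul]; rfl
    | succ k ih => rw [pow_succ, mul_apply', hl, map_smul, ih, smul_smul, pow_succ, mul_comm]
  refine Cfsg.Agent.Nodes.WittRGD.Amb.eq_one_of_fix hA (fun z => ?_) (fun w hw => ?_)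
  · by_cases h1 : z.1 = a.1
    · rcases eq_or_ng h1 with rfl | rfl
      · rw [key _ _ (hX_a Fr hab ht), hm, one_smul]
      · rw [key (ng a) _ (hX_na Fr hab ht), inv_pow, ← map_pow, hm, map_one, inv_one, one_smul]
    by_cases h2 : z.1 = b.1
    · rcases eq_or_ng h2 with rfl | rfl
      · rw [key _ _ (hX_b Fr hab ht), ← map_pow, hm, map_one, one_smul]
      · rw [key (ng b) _ (hX_nb Fr hab ht), inv_pow, hm, inv_one, one_smul]
    · rw [key z 1 (by rw [hX_ne Fr hab h1 h2, one_smul]), one_pow, one_smul]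
  · have h1 : ∀ k : ℕ, (hX Fr a b t ^ k) w = w := by
      intro k
      induction k with
      | zero => rfl
      | succ k ih => rw [pow_succ, mul_apply', hX_V0 Fr hab hw, ih]
    exact h1 m

end

variable {Fr} {K : Type*} [Group K] (M : Model Fr K)

theorem hX_mem (a b : Fin n × Bool) (t : F) : hX Fr a b t ∈ M.I :=
  mul_mem (mul_mem (mul_mem (M.hX _ _ _) (M.hX _ _ _)) (M.hX _ _ _))
    (mul_mem (mul_mem (M.hX _ _ _) (M.hX _ _ _)) (M.hX _ _ _))

/-! ### The root elements of a model -/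

theorem model_X_inj {a b : Fin n × Bool} (hab : a.1 ≠ b.1) {s s' : F}
    (h : M.φ ⟨Fr.X a b s, M.hX _ _ _⟩ = M.φ ⟨Fr.X a b s', M.hX _ _ _⟩) : s = s' := by
  have h1 : M.φ (⟨Fr.X a b s, M.hX _ _ _⟩ * (⟨Fr.X a b s', M.hX _ _ _⟩)⁻¹) = 1 := by
    rw [map_mul, map_inv, h, mul_inv_cancel]
  obtain ⟨l, hl⟩ := M.ker (Fr.X a b s' (Fr.b (neg b))) _ h1
  have hl' : Fr.X a b s (Fr.b (neg b)) = l • Fr.X a b s' (Fr.b (neg b)) := by
    rw [← hl]
    change _ = (Fr.X a b s * (Fr.X a b s')⁻¹) (Fr.X a b s' (Fr.b (neg b)))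
    rw [← mul_apply', inv_mul_cancel_right]
  rw [X_apply_neg Fr hab, X_apply_neg Fr hab] at hl'
  have h2 := congrArg (fun v => H.h v (Fr.b b)) hl'
  have h3 := congrArg (fun v => H.h v (Fr.b (neg a))) hl'
  simp only [H.add_left, H.smul_left, Fr.hb_neg_self, Fr.hb_self_neg, Fr.hb_of_ne hab,
    Fr.hb_of_ne (x := neg b) (y := neg a) hab.symm, mul_zero, add_zero, zero_add] at h2 h3
  have hη := Fr.η_ne b
  have hη' := Fr.η_ne (neg a)
  have hl1 : l = 1 := by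
    have h4 : (1 : F) * Fr.η b = l * Fr.η b := by rw [one_mul]; exact h2
    exact (mul_right_cancel₀ hη h4).symm
  rw [hl1, one_mul] at h3
  exact mul_right_cancel₀ hη' h3

theorem model_Z_inj {a : Fin n × Bool} {p p' : Fr.Adm}
    (h : M.φ ⟨Fr.Z a p, M.hZ _ _⟩ = M.φ ⟨Fr.Z a p', M.hZ _ _⟩) : p = p' := by
  have h1 : M.φ (⟨Fr.Z a p, M.hZ _ _⟩ * (⟨Fr.Z a p', M.hZ _ _⟩)⁻¹) = 1 := by
    rw [map_mul, map_inv, h, mul_inv_cancel]
  obtain ⟨l, hl⟩ := M.ker (Fr.Z a p' (Fr.b (neg a))) _ h1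
  have hl' : Fr.Z a p (Fr.b (neg a)) = l • Fr.Z a p' (Fr.b (neg a)) := by
    rw [← hl]
    change _ = (Fr.Z a p * (Fr.Z a p')⁻¹) (Fr.Z a p' (Fr.b (neg a)))
    rw [← mul_apply', inv_mul_cancel_right]
  rw [Z_apply_neg, Z_apply_neg] at hl'
  have hη := Fr.η_ne a
  have hη' := Fr.η_ne (neg a)
  have hw := Fr.h0' a (Fr.ok_mem p.ok)
  have hw' := Fr.h0' a (Fr.ok_mem p'.ok)
  have hv := Fr.h0' (neg a) (Fr.ok_mem p.ok)
  have hv' := Fr.h0' (neg a) (Fr.ok_mem p'.ok)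
  have h2 := congrArg (fun v => H.h v (Fr.b a)) hl'
  have h3 := congrArg (fun v => H.h v (Fr.b (neg a))) hl'
  simp only [H.add_left, H.smul_left, Fr.hb_neg_self, Fr.hb_self_neg, Fr.hb_self, hw, hw', hv, hv',
    mul_zero, add_zero, zero_add] at h2 h3
  have hl1 : l = 1 := by
    have h4 : (1 : F) * Fr.η a = l * Fr.η a := by rw [one_mul]; exact h2
    exact (mul_right_cancel₀ hη h4).symm
  rw [hl1, one_mul] at h3
  have hc : p.c = p'.c := mul_right_cancel₀ hη (mul_right_cancel₀ hη' h3)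
  apply Frame.Adm.ext
  · rw [hl1, one_smul, hc] at hl'
    have h5 := add_left_cancel (add_right_cancel hl')
    exact smul_right_injective V hη h5
  · exact hc

/-! ### The criterion -/

variable {W : Type*} [Group W] (cs : CoxeterSystem (CoxeterMatrix.B n) W)

/-- the criterion -/
theorem nofix_of (hA : Amb Fr M.I)
    (hx : ∀ a b : Fin n × Bool, a.1 ≠ b.1 → ∃ (g : V ≃ₗ[F] V) (l m : F), g ∈ M.I ∧ Mono Fr g id ∧
      (∃ k : ℕ, g ^ 2 ^ k = 1) ∧ g (Fr.b a) = l • Fr.b a ∧ g (Fr.b b) = m • Fr.b b ∧ l * H.σ m ≠ 1)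
    (hz : ∀ (a : Fin n × Bool) (p : Fr.Adm), p ≠ 1 → ∃ (g : V ≃ₗ[F] V) (l : F) (q : Fr.Adm), g ∈ M.I ∧ Mono Fr g id ∧
      (∃ k : ℕ, g ^ 2 ^ k = 1) ∧ g (Fr.b a) = l • Fr.b a ∧ g p.w = q.w ∧ p.c = q.c ∧ Frame.Adm.smul (H.σ l) q ≠ p) :
    NoFix cs (isCartan n) (WittModel.T M) (WittModel.X M) := by
  intro x hxr u hu hcomm
  obtain ⟨a, b, hab, e⟩ := exists_of_isRoot cs hxr
  obtain ⟨g, hg, hgx, rfl⟩ := (WittModel.mem_X M).1 hu
  rw [rg_eq Fr hab e] at hgx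
  have key : ∀ t : V ≃ₗ[F] V, ∀ ht : t ∈ M.I, Mono Fr t id → (∃ k : ℕ, t ^ 2 ^ k = 1) →
      M.φ ⟨t * g * t⁻¹, mul_mem (mul_mem ht hg) (inv_mem ht)⟩ = M.φ ⟨g, hg⟩ := by
    intro t ht hm ⟨k, hk⟩
    have h1 : M.φ ⟨t, ht⟩ ∈ WittModel.T M := Subgroup.mem_map_of_mem _ (Subgroup.mem_subgroupOf.2 ⟨ht, hm⟩)
    have h2 : M.φ ⟨t, ht⟩ ^ 2 ^ k = 1 := by
      rw [← map_pow]
      have : (⟨t, ht⟩ : M.I) ^ 2 ^ k = 1 := Subtype.ext hk
      rw [this, map_one]
    have h3 := hcomm _ h1 ⟨k, h2⟩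
    have h4 : (⟨t * g * t⁻¹, mul_mem (mul_mem ht hg) (inv_mem ht)⟩ : M.I) = ⟨t, ht⟩ * ⟨g, hg⟩ * (⟨t, ht⟩)⁻¹ := rfl
    rw [h4, map_mul, map_mul, map_inv, h3, mul_inv_cancel_right]
  rcases hab with hne | rfl
  · rw [PG_ne Fr hne] at hgx
    obtain ⟨s, rfl⟩ := hgx
    obtain ⟨t, l, m, ht, hm, hk, hl, hm', hlm⟩ := hx a b hne
    have h1 := key t ht hm hk
    have h2 : t * Fr.X a b s * t⁻¹ = Fr.X a b (l * H.σ m * (Fr.η b)⁻¹ * Fr.η b * s) :=
      conj_X Fr (hA.iso t ht) hne hne hl hm' s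
    have h3 : M.φ ⟨Fr.X a b (l * H.σ m * (Fr.η b)⁻¹ * Fr.η b * s), M.hX _ _ _⟩ = M.φ ⟨Fr.X a b s, M.hX _ _ _⟩ := by
      rw [← h1]
      congr 1
      exact Subtype.ext h2.symm
    have h4 := model_X_inj M hne h3
    rw [inv_mul_cancel_right₀ (Fr.η_ne b)] at h4
    have h5 : s = 0 := by
      by_contra hs
      exact hlm (mul_right_cancel₀ hs (h4.trans (one_mul s).symm))
    subst h5
    have h6 : (⟨Fr.X a b 0, M.hX _ _ _⟩ : M.I) = 1 := Subtype.ext (Fr.X_zero a b)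
    exact (congrArg M.φ h6).trans (map_one _)
  · rw [PG_self] at hgx
    obtain ⟨p, rfl⟩ := hgx
    by_cases hp : p = 1
    · subst hp
      have h6 : (⟨Fr.Z a 1, M.hZ _ _⟩ : M.I) = 1 := Subtype.ext (Fr.Z_one a)
      exact (congrArg M.φ h6).trans (map_one _)
    exfalso
    obtain ⟨t, l, q, ht, hm, hk, hl, hq, hq', hne⟩ := hz a p hp
    have h1 := key t ht hm hk
    have h2 : t * Fr.Z a p * t⁻¹ = Fr.Z a (Frame.Adm.smul (H.σ l) q) := conj_Z Fr (hA.iso t ht) hl p q hq hq'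
    have h3 : M.φ ⟨Fr.Z a (Frame.Adm.smul (H.σ l) q), M.hZ _ _⟩ = M.φ ⟨Fr.Z a p, M.hZ _ _⟩ := by
      rw [← h1]
      congr 1
      exact Subtype.ext h2.symm
    exact hne (model_Z_inj M h3)

/-- **the criterion for symplectic groups with `q ≡ 1 mod 4` and for unitary groups**, `n ≥ 2` -/
theorem nofix_tt (hA : Amb Fr M.I) (hn : 2 ≤ n) {t : F} {k : ℕ} (ht : t ^ 2 ^ k = 1) (htσ : t * H.σ t ≠ 1) :
    NoFix cs (isCartan n) (WittModel.T M) (WittModel.X M) := by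
  have ht0 : t ≠ 0 := by
    rintro rfl
    rw [zero_pow (by positivity)] at ht
    exact zero_ne_one ht
  have hσ1 : H.σ t ≠ 1 := by
    intro h1
    have h2 : t = 1 := by rw [← H.σσ t, h1, map_one]
    rw [h2, map_one, mul_one] at htσ
    exact htσ rfl
  have ht2 : t * t ≠ 1 := by
    intro h1
    have h2 : (t - 1) * (t + 1) = 0 := by ring_nf; rw [sq, h1]; ring
    rcases mul_eq_zero.1 h2 with h3 | h3
    · have h4 : t = 1 := sub_eq_zero.1 h3
      rw [h4, map_one] at hσ1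
      exact hσ1 rfl
    · have h4 : t = -1 := eq_neg_of_add_eq_zero_left h3
      apply htσ
      rw [h4, map_neg, map_one]
      ring
  have hex : ∀ a : Fin n × Bool, ∃ b : Fin n × Bool, a.1 ≠ b.1 := by
    intro a
    have : Nontrivial (Fin n) := Fin.nontrivial_iff_two_le.2 hn
    obtain ⟨j, hj⟩ := exists_ne a.1
    exact ⟨(j, true), hj.symm⟩
  refine nofix_of M cs hA (fun a b hab => ?_) (fun a p hp => ?_)
  · refine ⟨hX Fr a b t, t, H.σ t, hX_mem M a b t, mono_hX Fr hab ht0, ⟨k, hX_pow Fr hab ht0 hA ht⟩,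
      hX_a Fr hab ht0, hX_b Fr hab ht0, ?_⟩
    rw [H.σσ]
    exact ht2
  · obtain ⟨b, hab⟩ := hex a
    refine ⟨hX Fr a b t, t, p, hX_mem M a b t, mono_hX Fr hab ht0, ⟨k, hX_pow Fr hab ht0 hA ht⟩,
      hX_a Fr hab ht0, hX_V0 Fr hab (Fr.ok_mem p.ok) t, rfl, ?_⟩
    intro h1
    have hw := congrArg Frame.Adm.w h1
    have hc := congrArg Frame.Adm.c h1
    rw [Frame.Adm.smul_w] at hw
    rw [Frame.Adm.smul_c, H.σσ] at hc
    apply hp
    have hw0 : p.w = 0 := by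
      have h2 : (H.σ t - 1) • p.w = 0 := by rw [sub_smul, hw, one_smul, sub_self]
      exact (smul_eq_zero.1 h2).resolve_left (sub_ne_zero.2 hσ1)
    have hc0 : p.c = 0 := by
      by_contra h3
      have h4 : H.σ t * t = 1 := mul_right_cancel₀ h3 (hc.trans (one_mul _).symm)
      exact htσ (by rw [mul_comm]; exact h4)
    exact Frame.Adm.ext hw0 hc0

/-- **the criterion for orthogonal groups in odd characteristic**, `n ≥ 3` -/
theorem nofix_orth (hA : Amb Fr M.I) (hn : 3 ≤ n) (h2 : (2 : F) ≠ 0) (hσ : ∀ x, H.σ x = x) (hε : H.ε = 1) :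
    NoFix cs (isCartan n) (WittModel.T M) (WittModel.X M) := by
  have h1 : (-1 : F) ≠ 0 := neg_ne_zero.2 one_ne_zero
  have h11 : (-1 : F) ≠ 1 := by
    intro h
    apply h2
    have : (1 : F) + 1 = 0 := by nth_rewrite 1 [← h]; ring
    rw [← this]; norm_num
  have hp : (-1 : F) ^ 2 ^ 1 = 1 := by norm_num
  have hex : ∀ a b : Fin n × Bool, ∃ c : Fin n × Bool, a.1 ≠ c.1 ∧ b.1 ≠ c.1 := by
    intro a b
    obtain ⟨j, hj⟩ : ∃ j : Fin n, j ∉ ({a.1, b.1} : Finset (Fin n)) := by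
      by_contra hcon
      push Not at hcon
      have h3 : (Finset.univ : Finset (Fin n)) ⊆ {a.1, b.1} := fun j _ => hcon j
      have h4 := Finset.card_le_card h3
      have h5 : ({a.1, b.1} : Finset (Fin n)).card ≤ 2 := Finset.card_le_two
      rw [Finset.card_univ, Fintype.card_fin] at h4
      omega
    rw [Finset.mem_insert, Finset.mem_singleton, not_or] at hj
    exact ⟨(j, true), fun h => hj.1 h.symm, fun h => hj.2 h.symm⟩
  refine nofix_of M cs hA (fun a b hab => ?_) (fun a p hp1 => ?_)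
  · obtain ⟨c, hac, hbc⟩ := hex a b
    refine ⟨hX Fr a c (-1), -1, 1, hX_mem M a c _, mono_hX Fr hac h1, ⟨1, hX_pow Fr hac h1 hA hp⟩,
      hX_a Fr hac h1, ?_, ?_⟩
    · rw [hX_ne Fr hac hab.symm hbc, one_smul]
    · rw [map_one, mul_one]
      exact h11
  · obtain ⟨c, hac, -⟩ := hex a a
    refine ⟨hX Fr a c (-1), -1, p, hX_mem M a c _, mono_hX Fr hac h1, ⟨1, hX_pow Fr hac h1 hA hp⟩,
      hX_a Fr hac h1, hX_V0 Fr hac (Fr.ok_mem p.ok) _, rfl, ?_⟩
    intro h3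
    have hw := congrArg Frame.Adm.w h3
    rw [Frame.Adm.smul_w, hσ] at hw
    apply hp1
    have hw0 : p.w = 0 := by
      have h4 : (-1 - 1 : F) • p.w = 0 := by rw [sub_smul, hw, one_smul, sub_self]
      refine (smul_eq_zero.1 h4).resolve_left ?_
      intro h5
      apply h2
      have : (2 : F) = -(-1 - 1) := by ring
      rw [this, h5, neg_zero]
    have hc0 : p.c = 0 := by
      have h4 := p.herm
      rw [hσ, hε, one_mul, hw0, H.zero_left, neg_zero, ← two_mul] at h4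
      exact (mul_eq_zero.1 h4).resolve_left h2
    exact Frame.Adm.ext hw0 hc0

end Cfsg.Agent.H69.OQ
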